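import Cfsg.Agent.Lib.Perm.CentralizerRing

/-!
# Traces in the centraliser of a multiplicity free representation

* `IsCoeff`: the scalars by which an equivariant map acts on the isotypic parts.
* `trace_mul_apply`: `tr (D ∘ ρ g) = ∑ χ, μ χ * α χ * χ g`.
-/

set_option autoImplicit false
set_option linter.all false

namespace CfsgLib.Perm.WielandtTwoP

open Module CfsgLib.Char CfsgLib.Perm.CentralizerRing
open scoped ComplexConjugate

universe v

variable {G : Type*} [Group G] [Fintype G] {W : Type v} [AddCommGroup W] [Module ℂ W]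
  [FiniteDimensional ℂ W]

/-- `α` gives the action of `D` on the isotypic parts. -/
def IsCoeff (ρ : Representation ℂ G W) (D : W →ₗ[ℂ] W) (α : Cfsg.IrrCharacter G → ℂ) : Prop :=
  ∀ χ : Cfsg.IrrCharacter G,
    D ∘ₗ charSum ρ (χ : G → ℂ) = α χ • charSum ρ (χ : G → ℂ)

theorem exists_isCoeff (ρ : Representation ℂ G W)
    (hmf : ∀ χ : Cfsg.IrrCharacter G, Cfsg.classInner ρ.character (χ : G → ℂ) = 0 ∨
      Cfsg.classInner ρ.character (χ : G → ℂ) = 1)
    {D : W →ₗ[ℂ] W} (hD : IsEquivariant ρ ρ D) : ∃ α, IsCoeff ρ D α := by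
  have h : ∀ χ : Cfsg.IrrCharacter G, ∃ c : ℂ,
      D ∘ₗ charSum ρ (χ : G → ℂ) = c • charSum ρ (χ : G → ℂ) := by
    intro χ
    rcases hmf χ with h | h
    · exact ⟨0, by rw [charSum_eq_zero ρ χ h, LinearMap.comp_zero, smul_zero]⟩
    · exact (exists_smul_charSum ρ χ h hD).2
  choose α hα using h
  exact ⟨α, hα⟩

theorem isCoeff_comp {ρ : Representation ℂ G W} {D D' : W →ₗ[ℂ] W}
    {α α' : Cfsg.IrrCharacter G → ℂ} (h : IsCoeff ρ D α) (h' : IsCoeff ρ D' α') :
    IsCoeff ρ (D ∘ₗ D') (fun χ => α' χ * α χ) := fun χ => by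
  rw [LinearMap.comp_assoc, h' χ, LinearMap.comp_smul, h χ, smul_smul]

/-- Convolution of two irreducible characters. -/
theorem sum_conj_mul_shift [DecidableEq (Cfsg.IrrCharacter G)] (χ ψ : Cfsg.IrrCharacter G) (g : G) :
    (χ : G → ℂ) 1 * ∑ h, conj ((χ : G → ℂ) h) * (ψ : G → ℂ) (h * g) =
      if ψ = χ then (Nat.card G : ℂ) * (χ : G → ℂ) g else 0 := by
  obtain ⟨n, σ, hσ, hσc⟩ := ψ.2
  obtain ⟨c, hc⟩ := exists_eq_smul_of_commute σ (charSum σ (χ : G → ℂ))
    (isEquivariant_charSum σ (IsIrr.isClassFunction χ.2))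
  have e1 : ∑ h, conj ((χ : G → ℂ) h) * (ψ : G → ℂ) (h * g) = c * (ψ : G → ℂ) g := by
    have h1 := congrArg (fun f => LinearMap.trace ℂ (Fin n → ℂ) (f ∘ₗ σ g)) hc
    simp only [charSum, ← Module.End.mul_eq_comp, Finset.sum_mul, map_sum, smul_mul_assoc, map_smul,
      smul_eq_mul, ← Module.End.one_eq_id, one_mul] at h1
    rw [← hσc]
    refine Eq.trans (Finset.sum_congr rfl fun h _ => ?_) h1
    show _ * LinearMap.trace ℂ _ (σ (h * g)) = _ * LinearMap.trace ℂ _ (σ h * σ g)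
    rw [map_mul σ]
  have e2 : c * (ψ : G → ℂ) 1 = if ψ = χ then (Nat.card G : ℂ) else 0 := by
    have h1 := congrArg (fun f => LinearMap.trace ℂ (Fin n → ℂ) f) hc
    simp only [charSum, map_sum, map_smul, smul_eq_mul, LinearMap.trace_id] at h1
    have h2 := classInner_irr ψ χ
    simp only [Cfsg.classInner] at h2
    rw [inv_mul_eq_iff_eq_mul₀ (Nat.cast_ne_zero.2 Nat.card_pos.ne')] at h2
    rw [← hσc, Representation.char_one, ← h1]
    refine Eq.trans (Finset.sum_congr rfl fun h _ => ?_) (h2.trans (by split_ifs <;> simp))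
    rw [mul_comm, ← hσc]
    rfl
  rw [e1]
  split_ifs with h
  · subst h
    rw [if_pos rfl] at e2
    rw [← e2]; ring
  · rw [if_neg h] at e2
    have hn : (ψ : G → ℂ) 1 ≠ 0 := by
      obtain ⟨d, hd0, hd⟩ := IsIrr.exists_degree ψ.2
      rw [hd, Nat.cast_ne_zero]
      omega
    rw [(mul_eq_zero.1 e2).resolve_right hn]
    simp

theorem trace_mul_apply [Fintype (Cfsg.IrrCharacter G)] (ρ : Representation ℂ G W)
    (μ : Cfsg.IrrCharacter G → ℕ)
    (hμ : ∀ χ : Cfsg.IrrCharacter G, Cfsg.classInner ρ.character (χ : G → ℂ) = (μ χ : ℂ))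
    {D : W →ₗ[ℂ] W} {α : Cfsg.IrrCharacter G → ℂ} (hα : IsCoeff ρ D α) (g : G) :
    LinearMap.trace ℂ W (D ∘ₗ ρ g) = ∑ χ, (μ χ : ℂ) * α χ * (χ : G → ℂ) g := by
  classical
  have hN : (Nat.card G : ℂ) ≠ 0 := Nat.cast_ne_zero.2 Nat.card_pos.ne'
  obtain ⟨m, hm⟩ := IsChar.exists_sum (G := G) (χ := ρ.character) (isCharacter_rep ρ)
  have hmμ : ∀ χ, m χ = μ χ := fun χ => by
    have h := hμ χ
    rw [hm, classInner_sum_irr] at h
    exact_mod_cast h
  have hE : ∀ χ : Cfsg.IrrCharacter G,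
      (χ : G → ℂ) 1 * LinearMap.trace ℂ W (charSum ρ (χ : G → ℂ) ∘ₗ ρ g) =
        (Nat.card G : ℂ) * ((μ χ : ℂ) * (χ : G → ℂ) g) := by
    intro χ
    have h1 : LinearMap.trace ℂ W (charSum ρ (χ : G → ℂ) ∘ₗ ρ g) =
        ∑ ψ : Cfsg.IrrCharacter G, (m ψ : ℂ) * ∑ h, conj ((χ : G → ℂ) h) * (ψ : G → ℂ) (h * g) := by
      simp only [charSum, ← Module.End.mul_eq_comp, Finset.sum_mul, map_sum, smul_mul_assoc, map_smul,
        smul_eq_mul]
      conv_rhs => simp only [Finset.mul_sum]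
      rw [Finset.sum_comm]
      refine Finset.sum_congr rfl fun h _ => ?_
      have h2 : LinearMap.trace ℂ W (ρ h * ρ g) = ρ.character (h * g) := by
        show _ = LinearMap.trace ℂ W (ρ (h * g))
        rw [map_mul ρ]
      rw [h2, hm, Finset.sum_apply, Finset.mul_sum]
      refine Finset.sum_congr rfl fun ψ _ => ?_
      rw [Pi.smul_apply, smul_eq_mul]; ring
    rw [h1, Finset.mul_sum, Finset.sum_eq_single χ]
    · rw [mul_left_comm, sum_conj_mul_shift, if_pos rfl, hmμ]; ring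
    · intro ψ _ hψ
      rw [mul_left_comm, sum_conj_mul_shift, if_neg hψ, mul_zero]
    · exact fun h => absurd (Finset.mem_univ _) h
  apply mul_left_cancel₀ hN
  have h1 := congrArg (fun f => LinearMap.trace ℂ W (D * f * ρ g)) (sum_charSum (G := G) ρ)
  simp only [← Module.End.one_eq_id, Finset.mul_sum, Finset.sum_mul, mul_smul_comm, smul_mul_assoc,
    mul_one, map_sum, map_smul, smul_eq_mul] at h1
  rw [← Module.End.mul_eq_comp, ← h1, Finset.mul_sum]
  refine Finset.sum_congr rfl fun χ _ => ?_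
  have h2 : D * charSum ρ (χ : G → ℂ) = α χ • charSum ρ (χ : G → ℂ) := hα χ
  rw [h2, smul_mul_assoc, map_smul, smul_eq_mul]
  have h3 := hE χ
  rw [← Module.End.mul_eq_comp] at h3
  linear_combination α χ * h3

end CfsgLib.Perm.WielandtTwoP
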