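import Cfsg.Agent.Lib.Perm.OrbitalOp
import Cfsg.Agent.Lib.Perm.WielandtTwoP.Trace

/-!
# Orbital counting functions as combinations of the constituents

* `exists_scalars`: `#{v | (v, g v) ∈ R} = ∑ μ χ * α χ * χ g`, `α 1 = k`, `∑ μ χ * |α χ|² * χ 1 = n k`.
-/

set_option autoImplicit false
set_option linter.all false

namespace CfsgLib.Perm.WielandtTwoP

open MulAction Module CfsgLib.Char CfsgLib.Perm.CentralizerRing CfsgLib.Perm.OrbitalOp
open scoped ComplexConjugate _root_.Classical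

variable {G : Type*} [Group G] [Fintype G] {Ω : Type*} [Fintype Ω] [DecidableEq Ω] [MulAction G Ω]

/-- Number of points sent by `g` along the orbital of `(a, b)`. -/
noncomputable def orbCount (G : Type*) [Group G] [MulAction G Ω] (a b : Ω) (g : G) : ℕ :=
  (Finset.univ.filter fun v : Ω => Rel G a b v (g • v)).card

theorem trace_fun (T : (Ω → ℂ) →ₗ[ℂ] (Ω → ℂ)) :
    LinearMap.trace ℂ _ T = ∑ x, T (Pi.single x 1) x := by
  rw [LinearMap.trace_eq_matrix_trace ℂ (Pi.basisFun ℂ Ω), Matrix.trace]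
  refine Finset.sum_congr rfl fun x _ => ?_
  simp [LinearMap.toMatrix_apply]

theorem trace_orbOp_mul (a b : Ω) (g : G) :
    LinearMap.trace ℂ _ (orbOp G a b ∘ₗ Cfsg.permRep ℂ G Ω g) = (orbCount G a b g : ℂ) := by
  rw [trace_fun, orbCount, Finset.card_filter, Nat.cast_sum]
  refine Finset.sum_congr rfl fun x _ => ?_
  rw [LinearMap.comp_apply, orbOp_apply, Finset.sum_eq_single (g • x)]
  · show _ * (Pi.single x (1 : ℂ) : Ω → ℂ) (g⁻¹ • g • x) = _
    rw [inv_smul_smul, Pi.single_eq_same, mul_one]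
    split_ifs <;> simp
  · intro y _ hy
    show _ * (Pi.single x (1 : ℂ) : Ω → ℂ) (g⁻¹ • y) = _
    rw [Pi.single_eq_of_ne (fun e => hy (inv_smul_eq_iff.1 e)), mul_zero]
  · exact fun h => absurd (Finset.mem_univ _) h

theorem rel_swap (a b x y : Ω) : Rel G b a x y ↔ Rel G a b y x :=
  ⟨fun ⟨g, h1, h2⟩ => ⟨g, h2, h1⟩, fun ⟨g, h1, h2⟩ => ⟨g, h2, h1⟩⟩

theorem orbCount_inv (a b : Ω) (g : G) : orbCount G b a g = orbCount G a b g⁻¹ := by
  refine Finset.card_bij (fun v _ => g • v) (fun v hv => ?_) (fun v _ w _ e => MulAction.injective g e)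
    fun w hw => ?_
  · simp only [Finset.mem_filter, Finset.mem_univ, true_and] at hv ⊢
    rw [inv_smul_smul]
    exact (rel_swap _ _ _ _).1 hv
  · simp only [Finset.mem_filter, Finset.mem_univ, true_and] at hw
    refine ⟨g⁻¹ • w, ?_, smul_inv_smul g w⟩
    simp only [Finset.mem_filter, Finset.mem_univ, true_and, smul_inv_smul]
    exact (rel_swap _ _ _ _).2 hw

theorem trace_orbOp_swap [IsPretransitive G Ω] (a b : Ω) :
    LinearMap.trace ℂ _ (orbOp G a b ∘ₗ orbOp G b a) =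
      (Fintype.card Ω : ℂ) * (Nat.card (orbit (stabilizer G a) b) : ℂ) := by
  rw [trace_fun]
  have h : ∀ x : Ω, (orbOp G a b ∘ₗ orbOp G b a) (Pi.single x 1) x =
      (Nat.card (orbit (stabilizer G a) b) : ℂ) := by
    intro x
    rw [LinearMap.comp_apply, orbOp_apply, ← card_row a b x, Finset.card_filter, Nat.cast_sum]
    refine Finset.sum_congr rfl fun y _ => ?_
    rw [orbOp_apply, Finset.sum_eq_single x]
    · rw [Pi.single_eq_same, mul_one]
      by_cases h1 : Rel G a b x y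
      · simp [h1, (rel_swap a b y x).2 h1]
      · simp [h1]
    · exact fun z _ hz => by rw [Pi.single_eq_of_ne hz, mul_zero]
    · exact fun h => absurd (Finset.mem_univ _) h
  rw [Finset.sum_congr rfl fun x _ => h x, Finset.sum_const, Finset.card_univ, nsmul_eq_mul]

variable [IsPretransitive G Ω] [Fintype (Cfsg.IrrCharacter G)]

theorem exists_scalars [Nonempty Ω] (μ : Cfsg.IrrCharacter G → ℕ) (hμ1 : μ (trivChar G) = 1)
    (hμ : ∀ χ : Cfsg.IrrCharacter G,
      Cfsg.classInner (fun g : G => (Nat.card (fixedBy Ω g) : ℂ)) (χ : G → ℂ) = (μ χ : ℂ))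
    (hle : ∀ χ, μ χ ≤ 1) (a b : Ω) :
    ∃ α : Cfsg.IrrCharacter G → ℂ,
      α (trivChar G) = (Nat.card (orbit (stabilizer G a) b) : ℂ) ∧
      (∀ g : G, (orbCount G a b g : ℂ) = ∑ χ, (μ χ : ℂ) * α χ * (χ : G → ℂ) g) ∧
      ∑ χ, (μ χ : ℂ) * (conj (α χ) * α χ) * (χ : G → ℂ) 1 =
        (Fintype.card Ω : ℂ) * (Nat.card (orbit (stabilizer G a) b) : ℂ) := by
  set ρ := Cfsg.permRep ℂ G Ω with hρ
  have hμρ : ∀ χ : Cfsg.IrrCharacter G,
      Cfsg.classInner ρ.character (χ : G → ℂ) = (μ χ : ℂ) := fun χ => by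
    rw [hρ, permRep_character]; exact hμ χ
  have hmf : ∀ χ : Cfsg.IrrCharacter G, Cfsg.classInner ρ.character (χ : G → ℂ) = 0 ∨
      Cfsg.classInner ρ.character (χ : G → ℂ) = 1 := fun χ => by
    rw [hμρ]
    rcases Nat.le_one_iff_eq_zero_or_eq_one.1 (hle χ) with h | h <;> simp [h]
  obtain ⟨α, hα⟩ := exists_isCoeff ρ hmf (isEquivariant_orbOp a b)
  obtain ⟨α', hα'⟩ := exists_isCoeff ρ hmf (isEquivariant_orbOp b a)
  have hf : ∀ g, (orbCount G a b g : ℂ) = ∑ χ, (μ χ : ℂ) * α χ * (χ : G → ℂ) g := fun g => by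
    rw [← trace_orbOp_mul]
    exact trace_mul_apply ρ μ hμρ hα g
  have hf' : ∀ g, (orbCount G b a g : ℂ) = ∑ χ, (μ χ : ℂ) * α' χ * (χ : G → ℂ) g := fun g => by
    rw [← trace_orbOp_mul]
    exact trace_mul_apply ρ μ hμρ hα' g
  refine ⟨α, ?_, hf, ?_⟩
  · have h1 := LinearMap.congr_fun (hα (trivChar G)) (fun _ => 1)
    have hE : charSum ρ ((trivChar G : Cfsg.IrrCharacter G) : G → ℂ) (fun _ => 1) =
        (Nat.card G : ℂ) • fun _ => (1 : ℂ) := by
      funext x
      simp only [charSum, LinearMap.sum_apply, LinearMap.smul_apply, Finset.sum_apply, Pi.smul_apply,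
        trivChar_apply, map_one, smul_eq_mul, one_mul]
      rw [hρ]
      show ∑ _g : G, (1 : ℂ) = _
      simp [Nat.card_eq_fintype_card]
    rw [LinearMap.comp_apply, LinearMap.smul_apply, hE, map_smul, orbOp_one] at h1
    have h2 := congrFun h1 a
    simp only [Pi.smul_apply, smul_eq_mul, mul_one] at h2
    exact mul_left_cancel₀ (Nat.cast_ne_zero.2 (Nat.card_pos (α := G)).ne')
      (h2.trans (mul_comm _ _)).symm
  · have hconj : ∀ χ, (μ χ : ℂ) * α' χ = (μ χ : ℂ) * conj (α χ) := by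
      intro χ
      have e : (∑ ψ : Cfsg.IrrCharacter G, ((μ ψ : ℂ) * α' ψ) • (ψ : G → ℂ)) =
          ∑ ψ : Cfsg.IrrCharacter G, ((μ ψ : ℂ) * conj (α ψ)) • (ψ : G → ℂ) := by
        funext g
        simp only [Finset.sum_apply, Pi.smul_apply, smul_eq_mul]
        rw [← hf' g, orbCount_inv, ← Complex.conj_natCast, hf, map_sum]
        refine Finset.sum_congr rfl fun ψ _ => ?_
        rw [map_mul, map_mul, Complex.conj_natCast, IsIrr.map_inv ψ.2, Complex.conj_conj]
      have := congrArg (fun f => Cfsg.classInner f (χ : G → ℂ)) e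
      simpa only [classInner_sum_irr] using this
    rw [← trace_orbOp_swap a b]
    have h := trace_mul_apply ρ μ hμρ (isCoeff_comp hα hα') (1 : G)
    rw [map_one, Module.End.one_eq_id, LinearMap.comp_id] at h
    rw [h]
    refine Finset.sum_congr rfl fun χ _ => ?_
    linear_combination (-(α χ * (χ : G → ℂ) 1)) * hconj χ

end CfsgLib.Perm.WielandtTwoP
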