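import Mathlib

/-!
# The arithmetic excluding rank four in degree `2 p`
-/

set_option autoImplicit false
set_option linter.all false

namespace CfsgLib.Perm.WielandtTwoP

open scoped ComplexConjugate

theorem quad_false {p e k z₁ z₂ : ℕ} (hp : p.Prime) (he : 2 * e + 1 = p) (hk : 2 ≤ k)
    (hz : z₁ + z₂ ≤ 1) {a₁ a₂ γ S T : ℂ}
    (h0 : (k : ℂ) + p * γ + e * (a₁ + a₂) = 0) (h1 : (k : ℂ) + a₁ * S + a₂ * T = p * z₁)
    (h2 : (k : ℂ) + a₁ * T + a₂ * S = p * z₂) (hST : S + T = -1)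
    (hD : conj (S - T) * (S - T) = p)
    (htr : (k : ℂ) * k + p * (conj γ * γ) + e * (conj a₁ * a₁ + conj a₂ * a₂) = 2 * p * k) :
    False := by
  have hp' : (p : ℂ) = 2 * e + 1 := by rw [← he]; push_cast; ring
  have hpne : (p : ℂ) ≠ 0 := Nat.cast_ne_zero.2 hp.ne_zero
  have hs : a₁ + a₂ = 2 * (k : ℂ) - p * (z₁ + z₂) := by
    linear_combination -h1 - h2 + (a₁ + a₂) * hST
  have hd : (a₁ - a₂) * (S - T) = p * ((z₁ : ℂ) - z₂) := by
    linear_combination h1 - h2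
  have hγ : γ = -(k : ℂ) + e * (z₁ + z₂) := by
    refine mul_left_cancel₀ hpne ?_
    linear_combination h0 - (e : ℂ) * hs + (k : ℂ) * hp'
  have hsc : conj (a₁ + a₂) = a₁ + a₂ := by
    rw [hs]; simp [Complex.conj_natCast, map_ofNat]
  have hdd : conj (a₁ - a₂) * (a₁ - a₂) = p * (((z₁ : ℂ) - z₂) ^ 2) := by
    refine mul_left_cancel₀ hpne ?_
    have hdc := congrArg conj hd
    simp only [map_mul, map_sub, Complex.conj_natCast] at hdc
    rw [show (p : ℂ) * (conj (a₁ - a₂) * (a₁ - a₂)) =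
      (conj (a₁ - a₂) * conj (S - T)) * ((a₁ - a₂) * (S - T)) by
      conv_lhs => rw [← hD]
      ring, hd]
    simp only [map_sub]
    rw [hdc]; ring
  have hsum : 2 * (conj a₁ * a₁ + conj a₂ * a₂) =
      (a₁ + a₂) ^ 2 + p * (((z₁ : ℂ) - z₂) ^ 2) := by
    rw [← hdd]
    calc 2 * (conj a₁ * a₁ + conj a₂ * a₂)
        = conj (a₁ + a₂) * (a₁ + a₂) + conj (a₁ - a₂) * (a₁ - a₂) := by simp only [map_add, map_sub]; ring
      _ = _ := by rw [hsc]; ring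
  have hγc : conj γ = γ := by rw [hγ]; simp [Complex.conj_natCast]
  have main : (p : ℂ) * (4 * (k : ℂ) ^ 2 - 4 * k - 8 * e * k * (z₁ + z₂)
      + e * (z₁ + z₂) ^ 2 * (4 * e + 1) + e * ((z₁ : ℂ) - z₂) ^ 2) = 0 := by
    rw [hγc, hγ] at htr
    rw [hs] at hsum
    subst_vars
    push_cast at *
    linear_combination 2 * htr - (e : ℂ) * hsum
  have main2 := (mul_eq_zero.1 main).resolve_left hpne
  have mainZ : (4 * (k : ℤ) ^ 2 - 4 * k - 8 * e * k * (z₁ + z₂)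
      + e * (z₁ + z₂) ^ 2 * (4 * e + 1) + e * ((z₁ : ℤ) - z₂) ^ 2) = 0 := by exact_mod_cast main2
  rcases (show (z₁ = 0 ∧ z₂ = 0) ∨ (z₁ = 1 ∧ z₂ = 0) ∨ (z₁ = 0 ∧ z₂ = 1) by omega) with
    ⟨rfl, rfl⟩ | h | h
  · push_cast at mainZ
    have : (k : ℤ) * 2 ≤ k * k := mul_le_mul_of_nonneg_left (by exact_mod_cast hk) (Int.natCast_nonneg k)
    nlinarith
  all_goals
    obtain ⟨rfl, rfl⟩ := h
    push_cast at mainZ
    have hsq : ((2 * (k : ℤ) - p) * (2 * (k : ℤ) - p)) = p := by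
      rw [show (p : ℤ) = 2 * e + 1 by exact_mod_cast he.symm]
      linear_combination mainZ
    exact (Nat.prime_iff_prime_int.1 hp).not_isSquare ⟨_, hsq.symm⟩

end CfsgLib.Perm.WielandtTwoP
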