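import Cfsg.Agent.Lib.Perm.WielandtTwoP.Sylow
import Cfsg.Agent.Lib.Perm.WielandtTwoP.Orbital
import Cfsg.Agent.Lib.Perm.WielandtTwoP.Arith
import Cfsg.Agent.S0157
import Cfsg.Agent.S4503

/-!
# Wielandt: primitive groups of degree `2 p` have rank at most three

* `exists_decomp`: the permutation character is `1 + χ₁ + χ₂` with degrees `p - 1` and `p`.
-/

set_option autoImplicit false
set_option linter.all false

open scoped ComplexConjugate

namespace CfsgLib.Perm.WielandtTwoP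

open Cfsg MulAction CfsgLib.Char CfsgLib.Blocks CfsgLib.Blocks.PrimeSylow CfsgLib.Perm.CentralizerRing
open scoped _root_.Classical

variable {α : Type*} [Fintype α] [DecidableEq α] {p : ℕ}

namespace Data

variable [Fact p.Prime] {G : Subgroup (Equiv.Perm α)} [Fintype G] [Fintype (IrrCharacter G)]
  {P V : Subgroup G} {m : IrrCharacter G → ℕ} (D : Data (p := p) G P V m)
include D

theorem inN_congr {l μ : IrrCharacter P} (h : InN P μ l) (z : IrrCharacter P) :
    InN P μ z ↔ InN P l z := by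
  haveI := Fintype.ofFinite P
  haveI := Fintype.ofFinite V
  haveI := Fintype.ofFinite (IrrCharacter P)
  haveI := Fintype.ofFinite (IrrCharacter V)
  have heq := D.setup.rel_equiv ((trivChar V : IrrCharacter V) : V → ℂ)
  simp only [← rel_iff D.setup D.card_V ((trivChar V : IrrCharacter V) : V → ℂ)] at h ⊢
  exact ⟨fun hz => heq.trans hz (heq.symm h), fun hz => heq.trans hz h⟩

theorem inN_refl (μ : IrrCharacter P) : InN P μ μ :=
  (rel_iff D.setup D.card_V ((trivChar V : IrrCharacter V) : V → ℂ) μ μ).1 ((D.setup.rel_equiv _).refl μ)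

theorem ne_triv_of_inN {l μ : IrrCharacter P} (hμ : μ ≠ trivChar P) (h : InN P μ l) :
    l ≠ trivChar P :=
  D.setup.ne_trivChar_of_rel _
    ((rel_iff D.setup D.card_V ((trivChar V : IrrCharacter V) : V → ℂ) l μ).2 h) hμ

/-- The rank four configuration does not occur. -/
theorem false_of_quad [Fintype P] [Fintype V] [Fintype (IrrCharacter P)] [Fintype (IrrCharacter V)]
    {χs θ₁ θ₂ : IrrCharacter G} (hs : χs ≠ trivChar G) (h1 : θ₁ ≠ trivChar G) (h2 : θ₂ ≠ trivChar G)
    (hs1 : χs ≠ θ₁) (hs2 : χs ≠ θ₂) (h12 : θ₁ ≠ θ₂)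
    (hm : ∀ χ, m χ = if χ ∈ ({trivChar G, χs, θ₁, θ₂} : Finset (IrrCharacter G)) then 1 else 0)
    (has : ∀ l, D.setup.aMult χs l = 1) {μ₁ μ₂ : IrrCharacter P} (hμ₁ : μ₁ ≠ trivChar P)
    (hμ₂ : μ₂ ≠ trivChar P) (hcov : ∀ l, l ≠ trivChar P → InN P μ₁ l ∨ InN P μ₂ l)
    (hdis : ∀ l, InN P μ₁ l → ¬ InN P μ₂ l)
    (ha1 : ∀ l, D.setup.aMult θ₁ l = if InN P μ₁ l then 1 else 0)
    (ha2 : ∀ l, D.setup.aMult θ₂ l = if InN P μ₂ l then 1 else 0) : False := by
  have H := D.hyp
  have hpp := H.prime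
  haveI := H.prim
  haveI := H.nonempty
  have h := D.setup
  set e := (Subgroup.centralizer (P : Set G)).relIndex (Subgroup.normalizer (P : Set G)) with he
  have hc₁ : (Finset.univ.filter fun l => InN P μ₁ l).card = e := h.card_inN μ₁ hμ₁
  have hc₂ : (Finset.univ.filter fun l => InN P μ₂ l).card = e := h.card_inN μ₂ hμ₂
  have hdisj : Disjoint (Finset.univ.filter fun l => InN P μ₁ l)
      (Finset.univ.filter fun l => InN P μ₂ l) :=
    Finset.disjoint_filter.2 fun l _ hl => hdis l hl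
  have hunion : (Finset.univ.filter fun l => InN P μ₁ l) ∪ (Finset.univ.filter fun l => InN P μ₂ l) =
      Finset.univ.erase (trivChar P) := by
    ext l
    simp only [Finset.mem_union, Finset.mem_filter, Finset.mem_univ, true_and, Finset.mem_erase, and_true]
    exact ⟨fun hl => hl.elim (D.ne_triv_of_inN hμ₁) (D.ne_triv_of_inN hμ₂), hcov l⟩
  have he2 : 2 * e + 1 = p := by
    have h3 := congrArg Finset.card hunion
    rw [Finset.card_union_of_disjoint hdisj, hc₁, hc₂, Finset.card_erase_of_mem (Finset.mem_univ _),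
      Finset.card_univ, ← Nat.card_eq_fintype_card, h.card_lchar] at h3
    have := hpp.two_le
    omega
  -- values at `x ∈ P`
  have hθ1 : ∀ x : P, (θ₁ : G → ℂ) x = orbitFn P μ₁ x := fun x => by
    rw [h.apply_eq_sum_aMult, orbitFn, Finset.sum_filter]
    exact Finset.sum_congr rfl fun l _ => by rw [ha1]; split_ifs <;> simp
  have hθ2 : ∀ x : P, (θ₂ : G → ℂ) x = orbitFn P μ₂ x := fun x => by
    rw [h.apply_eq_sum_aMult, orbitFn, Finset.sum_filter]
    exact Finset.sum_congr rfl fun l _ => by rw [ha2]; split_ifs <;> simp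
  have hall : ∀ x : P, x ≠ 1 → ∑ l : IrrCharacter P, (l : P → ℂ) x = 0 := fun x hx => by
    rw [← sum_degree_mul_apply_of_ne_one hx]
    exact Finset.sum_congr rfl fun l _ => by rw [h.lchar_one l, one_mul]
  have hχs0 : ∀ x : P, x ≠ 1 → (χs : G → ℂ) x = 0 := fun x hx => by
    rw [h.apply_eq_sum_aMult, ← hall x hx]
    exact Finset.sum_congr rfl fun l _ => by rw [has]; simp
  have hST : ∀ x : P, x ≠ 1 → orbitFn P μ₁ x + orbitFn P μ₂ x = -1 := by
    intro x hx
    rw [orbitFn, orbitFn, ← Finset.sum_union hdisj, hunion, Finset.sum_erase_eq_sub (Finset.mem_univ _),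
      hall x hx, trivChar_apply]
    ring
  -- the orbit of any character
  have horb : ∀ ν, ν ≠ trivChar P →
      (Finset.univ.filter fun l => InN P ν l) = (Finset.univ.filter fun l => InN P μ₁ l) ∨
      (Finset.univ.filter fun l => InN P ν l) = (Finset.univ.filter fun l => InN P μ₂ l) := by
    intro ν hν
    rcases hcov ν hν with hh | hh
    · left; exact Finset.filter_congr fun z _ => (D.inN_congr hh z).symm
    · right; exact Finset.filter_congr fun z _ => (D.inN_congr hh z).symm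
  -- norm of the difference of the two periods
  set f : P → ℂ := fun x => orbitFn P μ₁ x - orbitFn P μ₂ x with hf
  obtain ⟨x₀, hx₀⟩ : ∃ x : P, x ≠ 1 := by
    have : Nontrivial P := Finite.one_lt_card_iff_nontrivial.1 (h.card ▸ hpp.one_lt)
    exact exists_ne 1
  have hfsign : ∀ x : P, x ≠ 1 → conj (f x) * f x = conj (f x₀) * f x₀ := by
    intro x hx
    obtain ⟨j, rfl⟩ : ∃ j : ℕ, x₀ ^ j = x := by
      have h1 : x ∈ Subgroup.zpowers x₀ :=
        (zpowers_eq_top_of_prime_card h.card hx₀) ▸ Subgroup.mem_top x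
      rw [← mem_powers_iff_mem_zpowers, Submonoid.mem_powers_iff] at h1
      exact h1
    have hj : j.Coprime p := (hpp.coprime_iff_not_dvd.2 fun hd => hx (by
      obtain ⟨c, rfl⟩ := hd
      rw [pow_mul, show x₀ ^ p = 1 from Subtype.ext (h.pow_eq_one x₀.2), one_pow])).symm
    have e1 := orbitFn_pow h hj μ₁ hμ₁ x₀
    have e2 := orbitFn_pow h hj μ₂ hμ₂ x₀
    have hn1 := h.powChar_ne hj hμ₁
    have hn2 := h.powChar_ne hj hμ₂
    have hne : (Finset.univ.filter fun l => InN P (h.powChar hj μ₁) l) ≠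
        Finset.univ.filter fun l => InN P (h.powChar hj μ₂) l := by
      rw [← powChar_orbit h hj μ₁ hμ₁, ← powChar_orbit h hj μ₂ hμ₂]
      intro e3
      have e4 : μ₁ ∈ Finset.univ.filter fun l => InN P μ₂ l := by
        rw [← Finset.image_injective (h.powChar_injective hj) e3]
        exact Finset.mem_filter.2 ⟨Finset.mem_univ _, D.inN_refl μ₁⟩
      exact hdis μ₁ (D.inN_refl μ₁) (Finset.mem_filter.1 e4).2
    simp only [hf, ← e1, ← e2]
    rcases horb _ hn1 with o1 | o1 <;> rcases horb _ hn2 with o2 | o2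
    · exact absurd (o1.trans o2.symm) hne
    · rw [orbitFn, orbitFn, o1, o2]; rfl
    · rw [orbitFn, orbitFn, o1, o2]
      show conj (orbitFn P μ₂ x₀ - orbitFn P μ₁ x₀) * (orbitFn P μ₂ x₀ - orbitFn P μ₁ x₀) = _
      simp only [map_sub]; ring
    · exact absurd (o1.trans o2.symm) hne
  have hnorm : conj (f x₀) * f x₀ = p := by
    let c : IrrCharacter P → ℂ := fun l =>
      (if InN P μ₁ l then 1 else 0) - (if InN P μ₂ l then 1 else 0)
    have hfc : f = ∑ l, c l • (l : P → ℂ) := by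
      funext x
      simp only [hf, c, orbitFn, Finset.sum_apply, Pi.smul_apply, smul_eq_mul, sub_mul, ite_mul, one_mul,
        zero_mul, Finset.sum_sub_distrib, Finset.sum_filter]
    have h1 : classInner f f = (e : ℂ) + e := by
      conv_lhs => arg 2; rw [hfc]
      rw [classInner_sum_right]
      simp only [classInner_smul_right]
      rw [Finset.sum_congr rfl fun l _ => show conj (c l) * classInner f (l : P → ℂ) =
          (if InN P μ₁ l then (1 : ℂ) else 0) + (if InN P μ₂ l then 1 else 0) by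
        rw [hfc, classInner_sum_irr]
        simp only [c]
        by_cases a : InN P μ₁ l
        · simp [a, hdis l a]
        · by_cases b : InN P μ₂ l <;> simp [a, b]]
      rw [Finset.sum_add_distrib, Finset.sum_boole, Finset.sum_boole, hc₁, hc₂]
    have hf1 : f 1 = 0 := by
      simp only [hf, orbitFn, h.lchar_one, Finset.sum_const, hc₁, hc₂, sub_self]
    rw [classInner, h.card, ← Finset.add_sum_erase _ _ (Finset.mem_univ (1 : P)), hf1, zero_mul, zero_add,
      Finset.sum_congr rfl fun x hx => (mul_comm _ _).trans (hfsign x (Finset.ne_of_mem_erase hx)),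
      Finset.sum_const, Finset.card_erase_of_mem (Finset.mem_univ _), Finset.card_univ,
      ← Nat.card_eq_fintype_card, h.card, nsmul_eq_mul, Nat.cast_sub hpp.one_le] at h1
    have hp0 : (p : ℂ) ≠ 0 := Nat.cast_ne_zero.2 hpp.ne_zero
    rw [inv_mul_eq_iff_eq_mul₀ hp0] at h1
    have h2e : (2 : ℂ) * e + 1 = p := by exact_mod_cast he2
    refine mul_left_cancel₀ (show ((p : ℂ) - 1) ≠ 0 from sub_ne_zero.2 (by
      exact_mod_cast hpp.ne_one)) ?_
    push_cast at h1
    linear_combination h1 + (p : ℂ) * h2e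
  -- the element interchanging the two orbits
  obtain ⟨k, hk, -, hkμ⟩ := h.exists_powChar (hpp.coprime_iff_not_dvd.2 h.not_dvd).symm hμ₁ hμ₂
  have hx₁ : x₀ ^ k ≠ 1 := fun e' => h.pow_ne_one hk x₀.2 (fun e'' => hx₀ (Subtype.ext e''))
    (by simpa using congrArg Subtype.val e')
  have hswap1 : orbitFn P μ₁ (x₀ ^ k) = orbitFn P μ₂ x₀ := by
    rw [← orbitFn_pow h hk μ₁ hμ₁, hkμ]
  have hswap2 : orbitFn P μ₂ (x₀ ^ k) = orbitFn P μ₁ x₀ := by
    have e1 := hST _ hx₁
    have e2 := hST _ hx₀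
    linear_combination e1 - e2 - hswap1
  -- degrees
  have hone : ∀ η : IrrCharacter G, (η : G → ℂ) 1 = ∑ l, (D.setup.aMult η l : ℂ) := fun η => by
    rw [apply_one_eq_charDegree, ← h.sum_aMult η, Nat.cast_sum]
  have hds : (χs : G → ℂ) 1 = p := by
    rw [hone]
    simp only [has, Nat.cast_one, Finset.sum_const, Finset.card_univ, ← Nat.card_eq_fintype_card,
      h.card_lchar, nsmul_eq_mul, mul_one]
  have hd1 : (θ₁ : G → ℂ) 1 = e := by
    rw [hone]
    simp only [ha1, apply_ite (Nat.cast : ℕ → ℂ), Nat.cast_one, Nat.cast_zero, Finset.sum_boole, hc₁]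
  have hd2 : (θ₂ : G → ℂ) 1 = e := by
    rw [hone]
    simp only [ha2, apply_ite (Nat.cast : ℕ → ℂ), Nat.cast_one, Nat.cast_zero, Finset.sum_boole, hc₂]
  have hnot : trivChar G ∉ ({χs, θ₁, θ₂} : Finset (IrrCharacter G)) := by
    simp [Ne.symm hs, Ne.symm h1, Ne.symm h2]
  have hsum : ∀ φ : IrrCharacter G → ℂ,
      ∑ χ, (m χ : ℂ) * φ χ = φ (trivChar G) + φ χs + φ θ₁ + φ θ₂ := by
    intro φ
    simp only [hm, apply_ite (Nat.cast : ℕ → ℂ), Nat.cast_one, Nat.cast_zero, ite_mul, one_mul, zero_mul,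
      Finset.sum_ite_mem, Finset.univ_inter]
    rw [Finset.sum_insert hnot, Finset.sum_insert (by simp [hs1, hs2]),
      Finset.sum_insert (by simp [h12]), Finset.sum_singleton]
    ring
  -- a suborbit with small count
  obtain ⟨a⟩ := H.nonempty
  haveI := Fintype.ofFinite (orbitRel.Quotient (stabilizer G a) α)
  have hrank : Fintype.card (orbitRel.Quotient (stabilizer G a) α) = 4 := by
    have e1 := classInner_perm_self (G := G) a
    rw [D.decomp] at e1
    conv_lhs at e1 => arg 2; rw [← D.decomp]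
    rw [classInner_sum_left] at e1
    simp only [classInner_smul_left] at e1
    rw [hsum] at e1
    have hinner : ∀ χ : IrrCharacter G,
        classInner (χ : G → ℂ) (fun g : G => (Nat.card (fixedBy α g) : ℂ)) = (m χ : ℂ) := fun χ => by
      rw [← classInner_conj_symm, D.inner, Complex.conj_natCast]
    simp only [hinner, hm] at e1
    rw [if_pos (by simp), if_pos (by simp), if_pos (by simp), if_pos (by simp), Nat.card_eq_fintype_card] at e1
    have e2 : ((4 : ℕ) : ℂ) = (Fintype.card (orbitRel.Quotient (stabilizer G a) α) : ℂ) := by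
      rw [← e1]; norm_num
    exact_mod_cast e2.symm
  set q : α → orbitRel.Quotient (stabilizer G a) α := Quotient.mk'' with hq
  set B : Finset (orbitRel.Quotient (stabilizer G a) α) := Finset.univ.erase (q a) with hB
  have hBsum : ∀ g : G, ∑ o ∈ B, orbCount G a o.out g ≤ 2 * p := by
    intro g
    rw [← H.card, ← Finset.card_univ]
    simp only [orbCount]
    rw [← Finset.card_biUnion]
    · exact Finset.card_le_univ _
    · intro o _ o' _ hne
      rw [Function.onFun, Finset.disjoint_filter]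
      rintro v - ⟨g₁, ha₁, hb₁⟩ ⟨g₂, ha₂, hb₂⟩
      refine hne ((Quotient.out_eq' o).symm.trans (Eq.trans ?_ (Quotient.out_eq' o')))
      refine Quotient.sound' (MulAction.orbitRel_apply.2 ⟨⟨g₁⁻¹ * g₂, ?_⟩, ?_⟩)
      · rw [mem_stabilizer_iff, mul_smul, ha₂, ← ha₁, inv_smul_smul]
      · show (g₁⁻¹ * g₂) • o'.out = o.out
        rw [mul_smul, hb₂, ← hb₁, inv_smul_smul]
  obtain ⟨o, ho, hsmall⟩ : ∃ o ∈ B,
      orbCount G a o.out (x₀ : G) + orbCount G a o.out ((x₀ ^ k : P) : G) < 2 * p := by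
    by_contra hno
    push Not at hno
    have e1 : ∑ o ∈ B, 2 * p ≤ _ := Finset.sum_le_sum hno
    have e2 := hBsum (x₀ : G)
    have e3 := hBsum ((x₀ ^ k : P) : G)
    rw [hB] at e2 e3
    rw [Finset.sum_add_distrib, Finset.sum_const, smul_eq_mul, hB,
      Finset.card_erase_of_mem (Finset.mem_univ _), Finset.card_univ, hrank] at e1
    have := hpp.pos
    omega
  set b := o.out with hb
  have hba : b ≠ a := fun e' => Finset.ne_of_mem_erase ho (by
    rw [← Quotient.out_eq' o, ← hb, e'])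
  have hdvd : ∀ x : P, x ≠ 1 → p ∣ orbCount G a b (x : G) := fun x hx => by
    refine H.dvd_card_invariant (h.orderOf_eq x.2 fun e' => hx (Subtype.ext e')) _ fun v hv => ?_
    simp only [Finset.mem_filter, Finset.mem_univ, true_and] at hv ⊢
    exact (CfsgLib.Perm.OrbitalOp.rel_smul_iff a b _ _ (x : G)).2 hv
  obtain ⟨z₁, hz₁⟩ := hdvd x₀ hx₀
  obtain ⟨z₂, hz₂⟩ := hdvd _ hx₁
  have hz : z₁ + z₂ ≤ 1 := by
    rw [hz₁, hz₂] at hsmall
    have : p * (z₁ + z₂) < p * 2 := by rw [mul_add]; omega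
    exact Nat.lt_succ_iff.1 (Nat.lt_of_mul_lt_mul_left this)
  obtain ⟨s, hst, hscount, hsnorm⟩ := exists_scalars (G := G) (Ω := α) m D.triv D.inner
    (fun χ => by rw [hm]; split_ifs <;> omega) a b
  have hcount : ∀ g : G, (orbCount G a b g : ℂ) = (Nat.card (orbit (stabilizer G a) b) : ℂ) +
      s χs * (χs : G → ℂ) g + s θ₁ * (θ₁ : G → ℂ) g + s θ₂ * (θ₂ : G → ℂ) g := fun g => by
    rw [hscount, Finset.sum_congr rfl fun χ _ => mul_assoc _ _ _,
      hsum (fun χ => s χ * (χ : G → ℂ) g), trivChar_apply, hst, mul_one]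
  refine quad_false hpp he2 (H.two_le_suborbit hba) hz (γ := s χs) (a₁ := s θ₁) (a₂ := s θ₂)
    ?_ ?_ ?_ (hST x₀ hx₀) hnorm ?_
  · have e1 := hcount 1
    have e0 : orbCount G a b (1 : G) = 0 := by
      rw [orbCount, Finset.card_eq_zero, Finset.filter_eq_empty_iff]
      rintro v - ⟨g, hga, hgb⟩
      rw [one_smul] at hgb
      exact hba (MulAction.injective g (hgb.trans hga.symm))
    rw [e0, hds, hd1, hd2, Nat.cast_zero] at e1
    linear_combination -e1
  · have e1 := hcount (x₀ : G)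
    rw [hz₁, hχs0 x₀ hx₀, hθ1, hθ2] at e1
    push_cast at e1
    linear_combination -e1
  · have e1 := hcount ((x₀ ^ k : P) : G)
    rw [hz₂, hχs0 _ hx₁, hθ1, hθ2, hswap1, hswap2] at e1
    push_cast at e1
    linear_combination -e1
  · have e1 := hsnorm
    rw [Finset.sum_congr rfl fun χ _ => mul_assoc _ _ _,
      hsum (fun χ => conj (s χ) * s χ * (χ : G → ℂ) 1), trivChar_apply, hst, hds, hd1, hd2,
      Complex.conj_natCast, H.card] at e1
    push_cast at e1
    linear_combination e1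

end Data

set_option maxHeartbeats 1000000 in
/-- `π = 1 + χ₁ + χ₂` with degrees `p - 1` and `p`. -/
theorem exists_decomp {G : Subgroup (Equiv.Perm α)} [Fintype G] (H : Hyp p G) (a₀ : α) :
    Nat.card (orbitRel.Quotient (stabilizer G a₀) α) = 3 ∧
      ∃ χ₁ χ₂ : IrrCharacter G,
        ((fun g : G => (Nat.card (fixedBy α g) : ℂ)) = fun g => 1 + (χ₁ : G → ℂ) g + (χ₂ : G → ℂ) g) ∧
        (χ₁ : G → ℂ) 1 = (p : ℂ) - 1 ∧ (χ₂ : G → ℂ) 1 = p := by
  haveI := Fact.mk H.prime
  haveI := H.prim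
  haveI := H.nonempty
  haveI := Fintype.ofFinite (IrrCharacter G)
  obtain ⟨P, V, m, D⟩ := exists_data H
  haveI := Fintype.ofFinite P
  haveI := Fintype.ofFinite V
  haveI := Fintype.ofFinite (IrrCharacter P)
  haveI := Fintype.ofFinite (IrrCharacter V)
  obtain ⟨M, hM⟩ := CfsgLib.ZStar.exists_isPModular (p := p) H.prime
  haveI : M.IsPrime := hM.2.1.isPrime
  have hpp := H.prime
  have h := D.setup
  set e := (Subgroup.centralizer (P : Set G)).relIndex (Subgroup.normalizer (P : Set G)) with he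
  set t := trivChar G with ht
  set t₀ := trivChar P with ht₀
  -- the trivial character
  have hat : ∀ l, h.aMult t l = if l = t₀ then 1 else 0 := by
    intro l
    apply Nat.cast_injective (R := ℂ)
    rw [← h.aMult_spec]
    have e1 : (fun x : P => ((trivChar G : IrrCharacter G) : G → ℂ) x) =
        ((trivChar P : IrrCharacter P) : P → ℂ) :=
      funext fun x => by rw [trivChar_apply, trivChar_apply]
    rw [ht, e1, classInner_irr]
    rcases eq_or_ne l t₀ with hl | hl
    · rw [if_pos hl.symm, if_pos hl]; simp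
    · rw [if_neg (Ne.symm hl), if_neg hl]; simp
  have hrest : ∀ l, ∑ χ ∈ Finset.univ.erase t, m χ * h.aMult χ l = if l = t₀ then 1 else 2 := by
    intro l
    have e1 := D.sum_mult l
    rw [← Finset.add_sum_erase _ _ (Finset.mem_univ t), D.triv, one_mul] at e1
    have e2 := hat l
    split_ifs at e2 ⊢ <;> omega
  -- the distinguished constituent
  obtain ⟨χs, hχsmem, hχsne⟩ : ∃ χ ∈ Finset.univ.erase t, m χ * h.aMult χ t₀ ≠ 0 :=
    Finset.exists_ne_zero_of_sum_ne_zero (by rw [hrest t₀, if_pos rfl]; exact one_ne_zero)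
  have hχst : χs ≠ t := Finset.ne_of_mem_erase hχsmem
  have h0 := hrest t₀
  rw [if_pos rfl, ← Finset.add_sum_erase _ _ hχsmem] at h0
  have hsprod : m χs * h.aMult χs t₀ = 1 := by omega
  obtain ⟨hms, has0⟩ := mul_eq_one.1 hsprod
  have hothers : ∀ χ, χ ≠ t → χ ≠ χs → m χ ≠ 0 → h.aMult χ t₀ = 0 := by
    intro χ h1 h2 h3
    have e1 : ∑ χ ∈ (Finset.univ.erase t).erase χs, m χ * h.aMult χ t₀ = 0 := by omega
    exact (Nat.mul_eq_zero.1 ((Finset.sum_eq_zero_iff.1 e1) χ (Finset.mem_erase.2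
      ⟨h2, Finset.mem_erase.2 ⟨h1, Finset.mem_univ _⟩⟩))).resolve_left h3
  -- it is fixed by the power maps
  have hconst : ∀ l ν, l ≠ t₀ → ν ≠ t₀ → h.aMult χs l = h.aMult χs ν := by
    intro l ν hl hν
    obtain ⟨k, hk, hk1, rfl⟩ := h.exists_powChar (hpp.coprime_iff_not_dvd.2 h.not_dvd).symm hl hν
    have hkG := coprime_card h hk hk1
    have hpow := fun z => aMult_powChar h χs hk hkG z
    set χ' : IrrCharacter G := ⟨_, isIrrCharacter_pow χs.2 hkG⟩ with hχ'
    have h1 : χ' ≠ t := by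
      intro e1
      refine hχst (irr_ext fun g => ?_)
      obtain ⟨g', rfl⟩ := (powCoprime hkG.symm).surjective g
      have e2 := congrFun (congrArg Subtype.val e1) g'
      rw [ht, trivChar_apply] at e2 ⊢
      exact e2
    have h2 : h.aMult χ' t₀ = 1 := by
      have e1 := hpow t₀
      rw [show h.powChar hk t₀ = t₀ from irr_ext fun x => by
        rw [h.powChar_apply, ht₀, trivChar_apply, trivChar_apply]] at e1
      rw [e1, has0]
    have h3 : χ' = χs := by
      by_contra hne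
      have := hothers χ' h1 hne (by rw [D.mult_pow χs hkG, hms]; exact one_ne_zero)
      omega
    have h4 := hpow l
    rw [h3] at h4
    exact h4.symm
  obtain ⟨μ₀, hμ₀, c, d, hcd, hpat⟩ := pattern h D.card_V hM χs
  obtain ⟨u, hu⟩ : ∃ u, u = h.aMult χs μ₀ := ⟨_, rfl⟩
  have hu3 : u = 0 ∨ u = 1 ∨ u = 2 := by
    have e1 := hpat μ₀ hμ₀
    rw [if_pos (D.inN_refl μ₀), ← ht₀, has0] at e1
    rcases hcd with ⟨rfl, -⟩ | ⟨rfl | rfl, -⟩ <;> omega
  have hsval : ∀ l, l ≠ t₀ → h.aMult χs l = u := fun l hl => by rw [hu]; exact hconst l μ₀ hl hμ₀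
  have hdeg : ∀ χ : IrrCharacter G, (∑ l, h.aMult χ l) = charDegree (χ : G → ℂ) := fun χ => h.sum_aMult χ
  have hcardL : (Finset.univ.erase t₀).card = p - 1 := by
    rw [Finset.card_erase_of_mem (Finset.mem_univ _), Finset.card_univ, ← Nat.card_eq_fintype_card,
      h.card_lchar]
  have hsdeg : charDegree (χs : G → ℂ) = 1 + (p - 1) * u := by
    rw [← hdeg, ← Finset.add_sum_erase _ _ (Finset.mem_univ t₀), has0,
      Finset.sum_congr rfl (fun l hl => hsval l (Finset.ne_of_mem_erase hl)), Finset.sum_const,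
      hcardL, smul_eq_mul]
  -- the other constituents
  set R := (Finset.univ.erase t).erase χs with hR
  have hRsum : ∀ l, l ≠ t₀ → ∑ χ ∈ R, m χ * h.aMult χ l + u = 2 := by
    intro l hl
    have e1 := hrest l
    rw [if_neg hl, ← Finset.add_sum_erase _ _ hχsmem, hms, one_mul, hsval l hl, add_comm] at e1
    exact e1
  have hR0 : ∀ χ ∈ R, m χ ≠ 0 → h.aMult χ t₀ = 0 := fun χ hχ h3 =>
    hothers χ (Finset.ne_of_mem_erase (Finset.mem_of_mem_erase hχ)) (Finset.ne_of_mem_erase hχ) h3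
  have hRne : ∀ χ ∈ R, m χ ≠ 0 → ∃ l, l ≠ t₀ ∧ h.aMult χ l ≠ 0 := by
    intro χ hχ h3
    by_contra hno
    push Not at hno
    have e1 := hdeg χ
    rw [Finset.sum_eq_zero fun l _ => ?_] at e1
    · exact (CfsgLib.Blocks.charDegree_pos χ).ne' e1.symm
    · rcases eq_or_ne l t₀ with rfl | hl
      exacts [hR0 χ hχ h3, hno l hl]
  have hperm : ∀ g : G, (Nat.card (fixedBy α g) : ℂ) =
      1 + (χs : G → ℂ) g + ∑ χ ∈ R, (m χ : ℂ) * (χ : G → ℂ) g := by
    intro g
    rw [D.perm_apply, ← Finset.add_sum_erase _ _ (Finset.mem_univ t), ← Finset.add_sum_erase _ _ hχsmem,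
      D.triv, hms, ht, trivChar_apply]
    push_cast
    ring
  rcases hu3 with rfl | rfl | rfl
  · -- degree one
    exfalso
    obtain ⟨x, hx⟩ : ∃ x : P, x ≠ 1 := by
      have : Nontrivial P := Finite.one_lt_card_iff_nontrivial.1 (h.card ▸ hpp.one_lt)
      exact exists_ne 1
    refine hx (Subtype.ext (D.faithful hχst (by rw [hms]; exact one_ne_zero) (x : G) ?_))
    rw [h.apply_eq_sum_aMult, Finset.sum_eq_single t₀, has0, apply_one_eq_charDegree, hsdeg, ht₀,
      trivChar_apply]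
    · simp
    · intro l _ hl
      rw [hsval l hl, Nat.cast_zero, zero_mul]
    · exact fun hi => absurd (Finset.mem_univ _) hi
  swap
  · -- doubly transitive
    exfalso
    have hz : ∀ χ ∈ R, m χ = 0 := by
      intro χ hχ
      by_contra h3
      obtain ⟨l, hl, hal⟩ := hRne χ hχ h3
      have e1 := hRsum l hl
      have e2 := (Finset.sum_eq_zero_iff.1 (show ∑ χ ∈ R, m χ * h.aMult χ l = 0 by omega)) χ hχ
      exact hal ((Nat.mul_eq_zero.1 e2).resolve_left h3)
    refine H.not_two ((Cfsg.Agent.S0157.result α (by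
      rw [Nat.card_eq_fintype_card, H.card]; have := hpp.pos; omega)).1 ?_)
    rw [show (fun g : G => (Nat.card (fixedBy α g) : ℂ) - 1) = (χs : G → ℂ) from funext fun g => by
      rw [hperm, Finset.sum_eq_zero fun χ hχ => by rw [hz χ hχ, Nat.cast_zero, zero_mul]]; ring]
    exact χs.2
  -- `u = 1`
  have hR1 : ∀ l, l ≠ t₀ → ∑ χ ∈ R, m χ * h.aMult χ l = 1 := fun l hl => by
    have := hRsum l hl; omega
  have hex : ∀ l, l ≠ t₀ → ∃ χ ∈ R, m χ = 1 ∧ h.aMult χ l = 1 ∧
      ∀ ψ ∈ R, ψ ≠ χ → m ψ = 0 ∨ h.aMult ψ l = 0 := by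
    intro l hl
    obtain ⟨χ, hχ, hne⟩ := Finset.exists_ne_zero_of_sum_ne_zero
      (s := R) (f := fun χ => m χ * h.aMult χ l) (by rw [hR1 l hl]; exact one_ne_zero)
    have e1 := hR1 l hl
    rw [← Finset.add_sum_erase _ _ hχ] at e1
    obtain ⟨e2, e3⟩ := mul_eq_one.1 (show m χ * h.aMult χ l = 1 by omega)
    refine ⟨χ, hχ, e2, e3, fun ψ hψ hne' => Nat.mul_eq_zero.1 ?_⟩
    exact Finset.sum_eq_zero_iff.1 (show ∑ ψ ∈ R.erase χ, m ψ * h.aMult ψ l = 0 by omega) ψ
      (Finset.mem_erase.2 ⟨hne', hψ⟩)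
  have hshape : ∀ χ ∈ R, m χ ≠ 0 → ∃ μ, μ ≠ t₀ ∧ h.aMult χ μ = 1 ∧ ∃ d : ℕ, d ≤ 1 ∧
      ∀ l, l ≠ t₀ → h.aMult χ l = if InN P μ l then 1 else d := by
    intro χ hχ h3
    obtain ⟨μ, hμ, c, d, hcd, hp'⟩ := pattern h D.card_V hM χ
    have e0 : (h.aMult χ (trivChar P) : ℤ) = 0 := by exact_mod_cast hR0 χ hχ h3
    simp only [e0, zero_add] at hp'
    obtain ⟨l, hl, hal⟩ := hRne χ hχ h3
    have e1 := hp' μ hμ
    rw [if_pos (D.inN_refl μ)] at e1
    rcases hcd with ⟨rfl, rfl⟩ | ⟨rfl | rfl, hd⟩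
    · exfalso
      have e2 := hp' l hl
      rw [ite_self] at e2
      omega
    · refine ⟨μ, hμ, ?_, d.toNat, by omega, fun l hl => ?_⟩
      · omega
      · have e2 := hp' l hl
        split_ifs at e2 ⊢ <;> omega
    · omega
  obtain ⟨θ₁, hθ₁R, hm1, ha1, huniq1⟩ := hex μ₀ hμ₀
  obtain ⟨μ₁, hμ₁, haμ₁, d₁, hd₁, hshape1⟩ := hshape θ₁ hθ₁R (by rw [hm1]; exact one_ne_zero)
  by_cases hgood : ∃ θ ∈ R, m θ ≠ 0 ∧ ∀ l, l ≠ t₀ → h.aMult θ l = 1
  · obtain ⟨θ, hθR, hθm, hθ⟩ := hgood
    obtain ⟨χ', hχ', e2, -, huniq⟩ := hex μ₀ hμ₀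
    have hθe : θ = χ' := by
      by_contra hne
      rcases huniq θ hθR hne with e | e
      · exact hθm e
      · rw [hθ μ₀ hμ₀] at e; exact one_ne_zero e
    subst hθe
    have hz : ∀ ψ ∈ R, ψ ≠ θ → m ψ = 0 := by
      intro ψ hψ hne
      by_contra h3
      obtain ⟨l, hl, hal⟩ := hRne ψ hψ h3
      have e4 := hR1 l hl
      rw [← Finset.add_sum_erase _ _ hθR, e2, hθ l hl] at e4
      exact hal ((Nat.mul_eq_zero.1 (Finset.sum_eq_zero_iff.1
        (show ∑ ψ ∈ R.erase θ, m ψ * h.aMult ψ l = 0 by omega) ψ (Finset.mem_erase.2 ⟨hne, hψ⟩))).resolve_left h3)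
    have hθdeg : charDegree (θ : G → ℂ) = p - 1 := by
      rw [← hdeg, ← Finset.add_sum_erase _ _ (Finset.mem_univ t₀), hR0 θ hθR hθm, zero_add,
        Finset.sum_congr rfl (fun l hl => hθ l (Finset.ne_of_mem_erase hl)), Finset.sum_const, hcardL,
        smul_eq_mul, mul_one]
    refine ⟨?_, θ, χs, funext fun g => ?_, ?_, ?_⟩
    · have e4 := classInner_perm_self (G := G) a₀
      rw [D.decomp] at e4
      conv_lhs at e4 => arg 2; rw [← D.decomp]
      rw [classInner_sum_left] at e4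
      simp only [classInner_smul_left] at e4
      have hinner : ∀ χ : IrrCharacter G,
          classInner (χ : G → ℂ) (fun g : G => (Nat.card (fixedBy α g) : ℂ)) = (m χ : ℂ) := fun χ => by
        rw [← classInner_conj_symm, D.inner, Complex.conj_natCast]
      simp only [hinner] at e4
      rw [← Finset.add_sum_erase _ _ (Finset.mem_univ t), ← Finset.add_sum_erase _ _ hχsmem,
        ← Finset.add_sum_erase _ _ hθR, D.triv, hms, e2,
        Finset.sum_eq_zero fun ψ hψ => by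
          rw [hz ψ (Finset.mem_of_mem_erase hψ) (Finset.ne_of_mem_erase hψ), Nat.cast_zero, zero_mul]] at e4
      have e5 : ((3 : ℕ) : ℂ) = (Nat.card (orbitRel.Quotient (stabilizer G a₀) α) : ℂ) := by
        rw [← e4]; norm_num
      exact_mod_cast e5.symm
    · rw [hperm, ← Finset.add_sum_erase _ _ hθR, e2,
        Finset.sum_eq_zero fun ψ hψ => by
          rw [hz ψ (Finset.mem_of_mem_erase hψ) (Finset.ne_of_mem_erase hψ), Nat.cast_zero, zero_mul]]
      push_cast
      ring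
    · rw [apply_one_eq_charDegree, hθdeg, Nat.cast_sub hpp.one_le, Nat.cast_one]
    · rw [apply_one_eq_charDegree, hsdeg, mul_one, Nat.add_sub_cancel' hpp.one_le]
  exfalso
  push Not at hgood
  have hd0 : ∀ θ ∈ R, m θ ≠ 0 → ∃ μ, μ ≠ t₀ ∧ (∀ l, h.aMult θ l = if InN P μ l then 1 else 0) ∧
      ∃ l, l ≠ t₀ ∧ ¬ InN P μ l := by
    intro θ hθ hθm
    obtain ⟨μ, hμ, -, d, hd, hs⟩ := hshape θ hθ hθm
    obtain ⟨l, hl, hne⟩ := hgood θ hθ hθm
    rw [hs l hl] at hne
    have hin : ¬ InN P μ l := fun hi => hne (if_pos hi)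
    rw [if_neg hin] at hne
    refine ⟨μ, hμ, fun z => ?_, l, hl, hin⟩
    rcases eq_or_ne z t₀ with rfl | hz
    · rw [hR0 θ hθ hθm, if_neg fun hi => D.ne_triv_of_inN hμ hi rfl]
    · rw [hs z hz, show d = 0 by omega]
  obtain ⟨ν₁, hν₁, hA1, l₀, hl₀, hl₀'⟩ := hd0 θ₁ hθ₁R (by rw [hm1]; exact one_ne_zero)
  obtain ⟨θ₂, hθ₂R, hm2, ha2, -⟩ := hex l₀ hl₀
  obtain ⟨ν₂, hν₂, hA2, -⟩ := hd0 θ₂ hθ₂R (by rw [hm2]; exact one_ne_zero)
  have hdis : ∀ l, InN P ν₁ l → ¬ InN P ν₂ l := by
    intro l h1 h2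
    have e1 : InN P ν₂ l₀ := by
      by_contra hc
      rw [hA2, if_neg hc] at ha2
      omega
    exact hl₀' ((D.inN_congr h1 l₀).2 ((D.inN_congr h2 l₀).1 e1))
  -- small degree forces two orbits
  have hθdeg : charDegree (θ₁ : G → ℂ) = e := by
    rw [← hdeg, Finset.sum_congr rfl fun l _ => hA1 l, Finset.sum_boole, h.card_inN ν₁ hν₁, Nat.cast_id]
  have hle : (Finset.univ.filter fun l => InN P ν₁ l).card < (Finset.univ.erase t₀).card := by
    refine Finset.card_lt_card (Finset.ssubset_iff_of_subset (fun l hl => ?_) |>.2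
      ⟨l₀, Finset.mem_erase.2 ⟨hl₀, Finset.mem_univ _⟩, fun hl => hl₀' (Finset.mem_filter.1 hl).2⟩)
    exact Finset.mem_erase.2 ⟨D.ne_triv_of_inN hν₁ (Finset.mem_filter.1 hl).2, Finset.mem_univ _⟩
  rw [h.card_inN ν₁ hν₁, hcardL, ← he] at hle
  have h1t : θ₁ ≠ t := Finset.ne_of_mem_erase (Finset.mem_of_mem_erase hθ₁R)
  have h2t : θ₂ ≠ t := Finset.ne_of_mem_erase (Finset.mem_of_mem_erase hθ₂R)
  have hFT : p ≤ 2 * e + 1 := by
    rw [← hθdeg]
    refine Cfsg.Agent.S4503.result p hpp H.dvd_card ?_ H.no_normal_prime _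
      (IsIrr.isCharacter θ₁.2) (D.faithful h1t (by rw [hm1]; exact one_ne_zero))
    intro hd
    rw [← P.card_mul_index, h.card, sq] at hd
    exact h.not_dvd (Nat.dvd_of_mul_dvd_mul_left hpp.pos hd)
  have he2 : 2 * e + 1 = p := by
    obtain ⟨c, hc⟩ : e ∣ p - 1 := h.centralizer_relIndex_dvd
    have : 2 ≤ c := by
      rcases c with _ | _ | c
      · omega
      · omega
      · omega
    have : e * 2 ≤ e * c := Nat.mul_le_mul_left e this
    omega
  have hcov : ∀ l, l ≠ t₀ → InN P ν₁ l ∨ InN P ν₂ l := by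
    intro l hl
    by_contra hno
    push Not at hno
    have e1 : ((Finset.univ.filter fun z => InN P ν₁ z) ∪ Finset.univ.filter fun z => InN P ν₂ z) ⊂
        Finset.univ.erase t₀ := by
      refine (Finset.ssubset_iff_of_subset fun z hz => ?_).2
        ⟨l, Finset.mem_erase.2 ⟨hl, Finset.mem_univ _⟩, ?_⟩
      · refine Finset.mem_erase.2 ⟨?_, Finset.mem_univ _⟩
        rcases Finset.mem_union.1 hz with hh | hh
        exacts [D.ne_triv_of_inN hν₁ (Finset.mem_filter.1 hh).2,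
          D.ne_triv_of_inN hν₂ (Finset.mem_filter.1 hh).2]
      · simp [hno.1, hno.2]
    have e2 := Finset.card_lt_card e1
    rw [Finset.card_union_of_disjoint (Finset.disjoint_filter.2 fun z _ hz => hdis z hz),
      h.card_inN ν₁ hν₁, h.card_inN ν₂ hν₂, hcardL, ← he] at e2
    omega
  have h12 : θ₁ ≠ θ₂ := by
    intro e1
    rw [← e1, hA1, if_neg hl₀'] at ha2
    omega
  have honly : ∀ ψ ∈ R, ψ ≠ θ₁ → ψ ≠ θ₂ → m ψ = 0 := by
    intro ψ hψ hn1 hn2
    by_contra h3
    obtain ⟨μ, hμ, hA, -⟩ := hd0 ψ hψ h3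
    obtain ⟨χ', hχ', -, hone', huniq⟩ := hex μ hμ
    have hψμ : h.aMult ψ μ = 1 := by rw [hA, if_pos (D.inN_refl μ)]
    have e1 : ψ = χ' := by
      by_contra hne
      rcases huniq ψ hψ hne with e | e
      · exact h3 e
      · omega
    rcases hcov μ hμ with hi | hi
    · rcases huniq θ₁ hθ₁R (by rw [← e1]; exact Ne.symm hn1) with e | e
      · omega
      · rw [hA1, if_pos hi] at e; omega
    · rcases huniq θ₂ hθ₂R (by rw [← e1]; exact Ne.symm hn2) with e | e
      · omega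
      · rw [hA2, if_pos hi] at e; omega
  refine D.false_of_quad hχst h1t h2t (Ne.symm (Finset.ne_of_mem_erase hθ₁R))
    (Ne.symm (Finset.ne_of_mem_erase hθ₂R)) h12 (fun χ => ?_) (fun l => ?_) hν₁ hν₂ hcov hdis hA1 hA2
  · simp only [Finset.mem_insert, Finset.mem_singleton]
    split_ifs with hc
    · rcases hc with rfl | rfl | rfl | rfl
      exacts [D.triv, hms, hm1, hm2]
    · push Not at hc
      exact honly χ (Finset.mem_erase.2 ⟨hc.2.1, Finset.mem_erase.2 ⟨hc.1, Finset.mem_univ _⟩⟩) hc.2.2.1 hc.2.2.2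
  · rcases eq_or_ne l t₀ with rfl | hl
    exacts [has0, hsval l hl]

end CfsgLib.Perm.WielandtTwoP
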