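import Mathlib.GroupTheory.GroupAction.Jordan
import Mathlib.GroupTheory.Sylow
import Mathlib

/-!
# Primitive, not doubly transitive groups of degree `2 p`

* `two_of_isCycle`, `two_of_card_four`: the degenerate cases.
* `noFix`, `sylow_card`, `card_centralizer_le`, `dvd_card_invariant`.
-/

set_option autoImplicit false
set_option linter.all false

namespace CfsgLib.Perm.WielandtTwoP

open MulAction Equiv
open scoped _root_.Classical

variable {α : Type*} [Fintype α] [DecidableEq α] {p : ℕ}

/-- A cycle of prime length shorter than the degree forces double transitivity. -/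
theorem two_of_isCycle (G : Subgroup (Perm α)) [hG : IsPreprimitive G α] {g : Perm α} (hg : g ∈ G)
    (hc : g.IsCycle) (hq : (g.support.card).Prime) (hlt : g.support.card < Fintype.card α) :
    IsMultiplyPretransitive G α 2 := by
  have hsum := Set.ncard_add_ncard_compl (g.support : Set α)
  rw [Set.ncard_coe_finset, Nat.card_eq_fintype_card] at hsum
  obtain ⟨n, hn⟩ : ∃ n, ((g.support : Set α)ᶜ).ncard = n + 1 :=
    Nat.exists_eq_add_of_le' (by omega : 1 ≤ ((g.support : Set α)ᶜ).ncard)
  have := hq.two_le
  have := Perm.isPretransitive_of_isCycle_mem hc hg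
  have h := hG.isMultiplyPreprimitive (s := (g.supportᶜ : Set α)) hn
    (by rw [Nat.card_eq_fintype_card]; omega)
    (IsPreprimitive.of_prime_card (by
      convert! hq using 1
      rw [Nat.card_eq_fintype_card, Fintype.card_subtype]
      congr 1
      ext x
      simp [SubMulAction.mem_ofFixingSubgroup_iff]))
  haveI := h.isMultiplyPretransitive
  exact isMultiplyPretransitive_of_le (n := n + 2) (by omega) (by rw [Nat.card_eq_fintype_card]; omega)

/-- A nontrivial normal subgroup is transitive, so its order is a multiple of the degree. -/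
theorem degree_dvd_of_normal (G : Subgroup (Perm α)) [IsPreprimitive G α] (S : Subgroup G)
    (hS : S.Normal) (hne : S ≠ ⊥) (u : α) :
    IsPretransitive S α ∧ Fintype.card α ∣ Nat.card S := by
  haveI := hS
  haveI : IsPretransitive S α := by
    refine IsQuasiPreprimitive.isPretransitive_of_normal (G := G) fun h => hne ?_
    rw [Subgroup.eq_bot_iff_forall]
    intro s hs
    refine Subtype.ext (Equiv.ext fun v => ?_)
    exact (Set.eq_univ_iff_forall.1 h v) ⟨s, hs⟩
  refine ⟨inferInstance, ?_⟩
  rw [← Nat.card_eq_fintype_card, ← index_stabilizer_of_transitive S u]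
  exact Subgroup.index_dvd_card _

/-- A primitive group of degree four is doubly transitive. -/
theorem two_of_card_four (hα : Fintype.card α = 4) (G : Subgroup (Perm α)) [IsPreprimitive G α] :
    IsMultiplyPretransitive G α 2 := by
  obtain ⟨u⟩ : Nonempty α := Fintype.card_pos_iff.1 (by omega)
  by_cases h3 : 3 ∣ Nat.card G
  · haveI : Fact (Nat.Prime 3) := ⟨Nat.prime_three⟩
    obtain ⟨g, hg⟩ := exists_prime_orderOf_dvd_card' (G := G) 3 h3
    have hg' : orderOf (g : Perm α) = 3 := (orderOf_submonoid g).trans hg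
    have hc : (g : Perm α).IsCycle := Perm.isCycle_of_prime_order' (hg' ▸ Nat.prime_three)
      (by rw [hg', hα]; omega)
    refine two_of_isCycle G g.2 hc ?_ ?_
    · rw [← hc.orderOf, hg']; exact Nat.prime_three
    · rw [← hc.orderOf, hg', hα]; omega
  · exfalso
    haveI : Fact (Nat.Prime 2) := ⟨Nat.prime_two⟩
    have hd : Nat.card G ∣ 2 ^ 3 * 3 := by
      have h := Subgroup.card_subgroup_dvd_card G
      rwa [Nat.card_perm, Nat.card_eq_fintype_card (α := α), hα] at h
    have h8 : Nat.card G ∣ 2 ^ 3 :=
      ((Nat.prime_three.coprime_iff_not_dvd.2 h3).symm).dvd_of_dvd_mul_right hd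
    obtain ⟨k, -, hk⟩ := (Nat.dvd_prime_pow Nat.prime_two).1 h8
    have h4 : 4 ∣ Nat.card G := by
      rw [← hα, ← Nat.card_eq_fintype_card, ← index_stabilizer_of_transitive G u]
      exact Subgroup.index_dvd_card _
    haveI : Nontrivial G := Finite.one_lt_card_iff_nontrivial.1
      (lt_of_lt_of_le (by norm_num) (Nat.le_of_dvd Nat.card_pos h4))
    haveI := IsPGroup.center_nontrivial (IsPGroup.of_card hk)
    have h2 : 2 ∣ Nat.card (Subgroup.center G) := by
      obtain ⟨j, hj⟩ := IsPGroup.iff_card.1 ((IsPGroup.of_card hk).to_subgroup (Subgroup.center G))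
      have := Finite.one_lt_card (α := Subgroup.center G)
      rcases j with _ | j
      · rw [hj] at this
        norm_num at this
      · exact ⟨2 ^ j, by rw [hj, pow_succ']⟩
    obtain ⟨z, hz⟩ := exists_prime_orderOf_dvd_card' (G := Subgroup.center G) 2 h2
    have hnorm : (Subgroup.zpowers (z : G)).Normal := ⟨fun w hw g => by
      obtain ⟨i, rfl⟩ := Subgroup.mem_zpowers_iff.1 hw
      rw [Subgroup.mem_center_iff.1 (Subgroup.zpow_mem _ z.2 i) g, mul_inv_cancel_right]
      exact Subgroup.zpow_mem _ (Subgroup.mem_zpowers _) i⟩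
    have hne : Subgroup.zpowers (z : G) ≠ ⊥ := by
      rw [Ne, Subgroup.zpowers_eq_bot]
      intro e
      rw [← orderOf_eq_one_iff, orderOf_submonoid, hz] at e
      omega
    have := (degree_dvd_of_normal G _ hnorm hne u).2
    rw [Nat.card_zpowers, orderOf_submonoid, hz, hα] at this
    exact absurd (Nat.le_of_dvd two_pos this) (by omega)

/-- The hypotheses shared by the rest of the file. -/
structure Hyp (p : ℕ) (G : Subgroup (Perm α)) : Prop where
  prime : p.Prime
  three_le : 3 ≤ p
  card : Fintype.card α = 2 * p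
  prim : IsPreprimitive G α
  not_two : ¬ IsMultiplyPretransitive G α 2

namespace Hyp

variable {G : Subgroup (Perm α)} (H : Hyp p G)
include H

/-- An element of order `p` has no fixed point. -/
theorem noFix_prime {g : G} (hg : orderOf g = p) (v : α) : g • v ≠ v := by
  haveI := H.prim
  intro hv
  have hg' : orderOf (g : Perm α) = p := (orderOf_submonoid g).trans hg
  have hsupp : (g : Perm α).support.card < 2 * orderOf (g : Perm α) := by
    rw [hg', ← H.card, ← Finset.card_univ]
    refine Finset.card_lt_card (Finset.ssubset_univ_iff.2 fun e => ?_)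
    have : v ∈ (g : Perm α).support := e ▸ Finset.mem_univ v
    exact (Perm.mem_support.1 this) hv
  have hc : (g : Perm α).IsCycle := Perm.isCycle_of_prime_order (hg' ▸ H.prime) hsupp
  have hp2 := H.prime.two_le
  exact H.not_two (two_of_isCycle G g.2 hc (by rw [← hc.orderOf, hg']; exact H.prime)
    (by rw [← hc.orderOf, hg', H.card]; omega))

/-- An element of order divisible by `p` has no fixed point. -/
theorem noFix {g : G} (hg : p ∣ orderOf g) (v : α) : g • v ≠ v := by
  intro hv
  obtain ⟨r, hr⟩ := hg
  have hrpos : 0 < orderOf g := orderOf_pos g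
  have hord : orderOf (g ^ r) = p := by
    have hr0 : r ≠ 0 := fun e => by rw [hr, e, mul_zero] at hrpos; omega
    rw [orderOf_pow_of_dvd hr0 ⟨p, by rw [hr, mul_comm]⟩, hr,
      Nat.mul_div_cancel _ (Nat.pos_of_ne_zero hr0)]
  refine H.noFix_prime hord v ?_
  exact MulAction.mem_stabilizer_iff.1 (Subgroup.pow_mem _ (MulAction.mem_stabilizer_iff.2 hv) r)

theorem card_fixedBy_eq_zero {g : G} (hg : p ∣ orderOf g) : Nat.card (fixedBy α g) = 0 := by
  rw [Nat.card_eq_zero]
  exact Or.inl ⟨fun ⟨v, hv⟩ => H.noFix hg v hv⟩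

/-- The orbit of an element of order `p` has `p` points. -/
theorem card_orbit {x : G} (hx : orderOf x = p) (v : α) :
    (Finset.univ.filter fun w => ∃ i : ℕ, x ^ i • v = w).card = p := by
  haveI := Fact.mk H.prime
  rw [show (Finset.univ.filter fun w => ∃ i : ℕ, x ^ i • v = w) =
    (Finset.range p).image fun i => x ^ i • v from ?_, Finset.card_image_of_injOn, Finset.card_range]
  · intro i hi j hj e
    rw [Finset.mem_coe, Finset.mem_range] at hi hj
    by_contra hne
    wlog hij : i < j generalizing i j
    · exact this hj hi e.symm (Ne.symm hne) (by omega)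
    have h1 : x ^ (j - i) • v = v := by
      have e' : x ^ i • v = x ^ j • v := e
      rw [show j = i + (j - i) by omega, pow_add, mul_smul] at e'
      exact (MulAction.injective (x ^ i) e').symm
    refine H.noFix_prime ?_ v h1
    rw [orderOf_pow' x (by omega), hx, Nat.Coprime.gcd_eq_one, Nat.div_one]
    exact H.prime.coprime_iff_not_dvd.2 fun hd => by
      have := Nat.le_of_dvd (by omega) hd
      omega
  · ext w
    simp only [Finset.mem_filter, Finset.mem_univ, true_and, Finset.mem_image, Finset.mem_range]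
    constructor
    · rintro ⟨i, rfl⟩
      exact ⟨i % p, Nat.mod_lt _ H.prime.pos, by rw [← hx, pow_mod_orderOf]⟩
    · rintro ⟨i, -, rfl⟩
      exact ⟨i, rfl⟩

/-- Two orbits cover the points. -/
theorem cover {x : G} (hx : orderOf x = p) {v w : α} (hw : ∀ i : ℕ, x ^ i • v ≠ w) (u : α) :
    (∃ i : ℕ, x ^ i • v = u) ∨ ∃ i : ℕ, x ^ i • w = u := by
  have hd : Disjoint (Finset.univ.filter fun z => ∃ i : ℕ, x ^ i • v = z)
      (Finset.univ.filter fun z => ∃ i : ℕ, x ^ i • w = z) := by
    rw [Finset.disjoint_filter]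
    rintro z - ⟨i, rfl⟩ ⟨j, hj⟩
    refine hw ((orderOf x - 1) * j + i) ?_
    rw [pow_add, mul_smul, ← hj, ← mul_smul, ← pow_add, show (orderOf x - 1) * j + j = orderOf x * j by
      rw [Nat.sub_mul, one_mul, Nat.sub_add_cancel (Nat.le_mul_of_pos_left j (orderOf_pos x))],
      pow_mul, pow_orderOf_eq_one, one_pow, one_smul]
  have h := Finset.eq_univ_of_card _ (show _ = Fintype.card α by
    rw [Finset.card_union_of_disjoint hd, H.card_orbit hx, H.card_orbit hx, H.card, two_mul])
  have hu := Finset.eq_univ_iff_forall.1 h u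
  simpa using hu

/-- An invariant set has cardinality divisible by `p`. -/
theorem dvd_card_invariant {x : G} (hx : orderOf x = p) (S : Finset α)
    (hS : ∀ v ∈ S, x • v ∈ S) : p ∣ S.card := by
  have hpow : ∀ (i : ℕ), ∀ v ∈ S, x ^ i • v ∈ S := by
    intro i
    induction i with
    | zero => intro v hv; simpa using hv
    | succ i ih => intro v hv; rw [pow_succ', mul_smul]; exact hS _ (ih v hv)
  rcases S.eq_empty_or_nonempty with rfl | ⟨v, hv⟩
  · simp
  by_cases h : ∃ w ∈ S, ∀ i : ℕ, x ^ i • v ≠ w
  · obtain ⟨w, hw, hne⟩ := h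
    have : S = Finset.univ := Finset.eq_univ_iff_forall.2 fun u => by
      rcases H.cover hx hne u with ⟨i, rfl⟩ | ⟨i, rfl⟩
      exacts [hpow i v hv, hpow i w hw]
    rw [this, Finset.card_univ, H.card]
    exact dvd_mul_left p 2
  · push Not at h
    refine dvd_of_eq ((H.card_orbit hx v).symm.trans (congrArg Finset.card ?_))
    ext w
    simp only [Finset.mem_filter, Finset.mem_univ, true_and]
    exact ⟨fun ⟨i, hi⟩ => hi ▸ hpow i v hv, fun hw => h w hw⟩

theorem nonempty : Nonempty α :=
  Fintype.card_pos_iff.1 (by rw [H.card]; have := H.prime.pos; omega)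

theorem dvd_card : p ∣ Nat.card G := by
  haveI := H.prim
  obtain ⟨u⟩ := H.nonempty
  refine (dvd_mul_left p 2).trans ?_
  rw [← H.card, ← Nat.card_eq_fintype_card, ← index_stabilizer_of_transitive G u]
  exact Subgroup.index_dvd_card _

theorem sylow_card [Fact p.Prime] (P : Sylow p G) : Nat.card (P : Subgroup G) = p := by
  obtain ⟨k, hk⟩ := IsPGroup.iff_card.1 P.isPGroup'
  have hk1 : 1 ≤ k := by
    by_contra h
    have h0 : k = 0 := by omega
    exact P.ne_bot_of_dvd_card H.dvd_card (Subgroup.eq_bot_of_card_eq _ (by rw [hk, h0, pow_zero]))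
  rcases eq_or_lt_of_le hk1 with h | h
  · rw [hk, ← h, pow_one]
  exfalso
  obtain ⟨v⟩ := H.nonempty
  have hinj : Function.Injective fun g : (P : Subgroup G) => (g : G) • v := by
    intro a b e
    by_contra hne
    have h1 : ((b⁻¹ * a : (P : Subgroup G)) : G) • v = v := by
      rw [Subgroup.coe_mul, Subgroup.coe_inv, mul_smul]
      exact inv_smul_eq_iff.2 e
    refine H.noFix ?_ v h1
    rw [orderOf_submonoid]
    have h2 := (orderOf_dvd_natCard (b⁻¹ * a)).trans (dvd_of_eq hk)
    obtain ⟨j, -, hj⟩ := (Nat.dvd_prime_pow H.prime).1 h2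
    rcases j with _ | j
    · rw [pow_zero, orderOf_eq_one_iff, inv_mul_eq_one] at hj
      exact absurd hj.symm hne
    · rw [hj]; exact dvd_pow_self p (by omega)
  have h3 := Nat.card_le_card_of_injective _ hinj
  rw [hk, Nat.card_eq_fintype_card, H.card] at h3
  have h4 : p ^ 2 ≤ p ^ k := Nat.pow_le_pow_right H.prime.pos (by omega)
  have := H.three_le
  nlinarith

theorem card_centralizer_le [Fact p.Prime] (P : Sylow p G) :
    Nat.card (Subgroup.centralizer ((P : Subgroup G) : Set G)) ≤ 2 * p := by
  obtain ⟨⟨x, hxP⟩, hxo⟩ := exists_prime_orderOf_dvd_card' (G := (P : Subgroup G)) p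
    (dvd_of_eq (H.sylow_card P).symm)
  rw [← orderOf_submonoid] at hxo
  obtain ⟨v⟩ := H.nonempty
  have hfree : ∀ c ∈ Subgroup.centralizer ((P : Subgroup G) : Set G), c • v = v → c = 1 := by
    intro c hc hcv
    have hcx : ∀ i : ℕ, Commute c (x ^ i) := fun i =>
      (Subgroup.mem_centralizer_iff.1 hc _ (Subgroup.pow_mem _ hxP i)).symm
    have h1 : ∀ i : ℕ, c • (x ^ i • v) = x ^ i • v := fun i => by
      rw [← mul_smul, (hcx i).eq, mul_smul, hcv]
    obtain ⟨w, hw⟩ : ∃ w, ∀ i : ℕ, x ^ i • v ≠ w := by
      by_contra hno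
      push Not at hno
      have := H.card_orbit hxo v
      rw [Finset.filter_true_of_mem (fun w _ => hno w), Finset.card_univ, H.card] at this
      have := H.prime.pos
      omega
    rcases H.cover hxo hw (c • w) with ⟨i, hi⟩ | ⟨i, hi⟩
    · exact absurd (MulAction.injective c ((h1 i).trans hi)) (hw i)
    have hj : ∀ j : ℕ, c ^ j • w = x ^ (i * j) • w := by
      intro j
      induction j with
      | zero => simp
      | succ j ih =>
        rw [pow_succ', mul_smul, ih, ← mul_smul, (hcx _).eq, mul_smul, ← hi, ← mul_smul, ← pow_add,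
          mul_add, mul_one]
    have hcp : c ^ p = 1 := by
      refine Subtype.ext (Equiv.ext fun u => ?_)
      show (c ^ p) • u = u
      rcases H.cover hxo hw u with ⟨j, rfl⟩ | ⟨j, rfl⟩
      · exact MulAction.mem_stabilizer_iff.1
          (Subgroup.pow_mem _ (MulAction.mem_stabilizer_iff.2 (h1 j)) p)
      · rw [← mul_smul, ((hcx j).pow_left p).eq, mul_smul, hj,
          show x ^ (i * p) = 1 by rw [mul_comm, pow_mul, ← hxo, pow_orderOf_eq_one, one_pow], one_smul]
    by_contra hne
    exact H.noFix (by rw [orderOf_eq_prime hcp hne]) v hcv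
  have hinj : Function.Injective
      fun c : Subgroup.centralizer ((P : Subgroup G) : Set G) => (c : G) • v := by
    intro a b e
    have h1 : ((b⁻¹ * a : Subgroup.centralizer ((P : Subgroup G) : Set G)) : G) • v = v := by
      rw [Subgroup.coe_mul, Subgroup.coe_inv, mul_smul]
      exact inv_smul_eq_iff.2 e
    have h2 := hfree _ (b⁻¹ * a).2 h1
    exact (inv_mul_eq_one.1 (Subtype.ext h2 : b⁻¹ * a = 1)).symm
  have h3 := Nat.card_le_card_of_injective _ hinj
  rwa [Nat.card_eq_fintype_card (α := α), H.card] at h3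

theorem no_normal_prime (S : Subgroup G) (hS : S.Normal) : Nat.card S ≠ p := by
  intro h
  haveI := H.prim
  obtain ⟨u⟩ := H.nonempty
  have hne : S ≠ ⊥ := fun e => H.prime.ne_one (by rw [← h, e, Subgroup.card_bot])
  have h2 := Nat.le_of_dvd (h ▸ H.prime.pos) (degree_dvd_of_normal G S hS hne u).2
  rw [H.card, h] at h2
  have := H.prime.pos
  omega

/-- No suborbit of length one. -/
theorem two_le_suborbit {a b : α} (hb : b ≠ a) : 2 ≤ Nat.card (orbit (stabilizer G a) b) := by
  haveI := H.prim
  haveI := Fact.mk H.prime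
  haveI : Nontrivial α := ⟨b, a, hb⟩
  have hfin : (orbit (stabilizer G a) b).Finite := Set.toFinite _
  by_contra hlt
  have h1 : ∀ g ∈ stabilizer G a, g • b = b := by
    intro g hg
    have hs : (orbit (stabilizer G a) b).Subsingleton := by
      rw [← Set.ncard_le_one_iff_subsingleton, ← Nat.card_coe_set_eq]
      omega
    exact hs ⟨⟨g, hg⟩, rfl⟩ (mem_orbit_self b)
  have hle : stabilizer G a ≤ stabilizer G b := fun g hg => mem_stabilizer_iff.2 (h1 g hg)
  have hco := IsPreprimitive.isCoatom_stabilizer_of_isPreprimitive (G := G) a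
  have heq : stabilizer G a = stabilizer G b := by
    refine (Or.resolve_left (hco.le_iff.1 hle) fun e => ?_).symm
    obtain ⟨g, hg⟩ := exists_smul_eq G b a
    have : g ∈ stabilizer G b := e ▸ Subgroup.mem_top g
    exact hb ((mem_stabilizer_iff.1 this).symm.trans hg)
  obtain ⟨g, hg⟩ := exists_smul_eq G a b
  have hnormal : (stabilizer G a).Normal := by
    rw [← Subgroup.normalizer_eq_top_iff]
    refine (hco.le_iff.1 Subgroup.le_normalizer).resolve_right fun e => ?_
    have hgN : g ∈ Subgroup.normalizer ((stabilizer G a : Subgroup G) : Set G) := by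
      refine Subgroup.mem_normalizer_iff.2 fun s => ?_
      conv_rhs => rw [heq, mem_stabilizer_iff, ← hg, mul_smul, mul_smul, inv_smul_smul]
      rw [mem_stabilizer_iff]
      exact ⟨fun h => by rw [h], fun h => MulAction.injective g h⟩
    rw [e, mem_stabilizer_iff, hg] at hgN
    exact hb hgN
  have hbot : stabilizer G a = ⊥ := by
    by_contra hne
    haveI := (degree_dvd_of_normal G _ hnormal hne a).1
    obtain ⟨⟨s, hs⟩, hsb⟩ := exists_smul_eq (stabilizer G a) a b
    exact hb (hsb.symm.trans (mem_stabilizer_iff.1 hs))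
  have hcard : Nat.card G = 2 * p := by
    rw [← (stabilizer G a).index_mul_card, hbot, Subgroup.card_bot, mul_one, ← hbot,
      index_stabilizer_of_transitive, Nat.card_eq_fintype_card, H.card]
  obtain ⟨P⟩ : Nonempty (Sylow p G) := inferInstance
  refine H.no_normal_prime (P : Subgroup G) (Subgroup.normal_of_index_eq_two ?_) (H.sylow_card P)
  have h2 := (P : Subgroup G).index_mul_card
  rw [H.sylow_card P, hcard] at h2
  exact Nat.eq_of_mul_eq_mul_right H.prime.pos h2

end Hyp

end CfsgLib.Perm.WielandtTwoP
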