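import Cfsg.Agent.Lib.Blocks.PrimeSylow.Families
import Cfsg.Agent.Lib.Blocks.PrimeSylow.Multiplicity
import Cfsg.Agent.Lib.CharDegree.Basic
import Cfsg.Agent.Lib.Char.PowerTwist
import Cfsg.Agent.Lib.ZStar.PrincipalBlock

/-!
# Restrictions to a Sylow subgroup of order `p` with centraliser of order at most `2 p`

* `pattern`: the multiplicities are constant off one orbit, with difference `0`, `± 1`.
* `aMult_powChar`: power maps permute the multiplicities.
* `orbitFn`: the sum of an orbit of linear characters, its norm.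
-/

set_option autoImplicit false
set_option linter.all false

open scoped ComplexConjugate

namespace CfsgLib.Perm.WielandtTwoP

open Cfsg CfsgLib.Char CfsgLib.Blocks CfsgLib.Blocks.PrimeSylow
open scoped _root_.Classical

variable {G : Type*} [Group G] [Fintype G] {p : ℕ} [Fact p.Prime] {P V : Subgroup G}
variable (h : Setup p P V) (hV : Nat.card V ≤ 2)
include h hV

theorem conj_fix {n : G} (hn : n ∈ Subgroup.normalizer (P : Set G)) {v : G} (hv : v ∈ V) :
    n * v * n⁻¹ = v := by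
  by_cases hv1 : v = 1
  · simp [hv1]
  have h2 : n * v * n⁻¹ ∈ V := h.conj_mem hn hv
  have hne : n * v * n⁻¹ ≠ 1 := fun e => hv1 (conj_eq_one_iff.1 e)
  by_contra hne'
  have h3 : ({(⟨1, one_mem _⟩ : V), ⟨v, hv⟩, ⟨_, h2⟩} : Finset V).card = 3 := by
    rw [Finset.card_insert_of_notMem, Finset.card_insert_of_notMem, Finset.card_singleton]
    · rw [Finset.mem_singleton]
      exact fun e => hne' (congrArg Subtype.val e).symm
    · simp only [Finset.mem_insert, Finset.mem_singleton, not_or]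
      exact ⟨fun e => hv1 (congrArg Subtype.val e).symm, fun e => hne (congrArg Subtype.val e).symm⟩
  haveI := Fintype.ofFinite V
  have := Finset.card_le_univ ({(⟨1, one_mem _⟩ : V), ⟨v, hv⟩, ⟨_, h2⟩} : Finset V)
  rw [h3, ← Nat.card_eq_fintype_card] at this
  omega

theorem cjFun_fix (η : V → ℂ) {n : G} (hn : n ∈ Subgroup.normalizer (P : Set G)) :
    cjFun η n = η := by
  funext v
  rw [h.cjFun_apply _ hn]
  exact congrArg η (Subtype.ext (conj_fix h hV hn v.2))

theorem rel_iff (η : V → ℂ) (l μ : IrrCharacter P) : h.Rel η l μ ↔ InN P μ l := by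
  constructor
  · rintro ⟨g, hg, e⟩
    exact ⟨g, hg.1, e⟩
  · rintro ⟨g, hg, e⟩
    exact ⟨g, ⟨hg, cjFun_fix h hV η hg⟩, e⟩

theorem charDegree_V (η : IrrCharacter V) : charDegree (η : V → ℂ) = 1 := by
  haveI := Fintype.ofFinite V
  haveI := Fintype.ofFinite (IrrCharacter V)
  have hone : charDegree ((trivChar V : IrrCharacter V) : V → ℂ) = 1 :=
    CharDegree.charDegree_eq_of_apply_one (by rw [trivChar_apply]; simp)
  rcases eq_or_ne η (trivChar V) with rfl | hne
  · exact hone
  have hsum : ∑ ψ : IrrCharacter V, charDegree (ψ : V → ℂ) ^ 2 = Nat.card V := by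
    apply Nat.cast_injective (R := ℂ)
    push_cast
    rw [← sum_sq_degree (G := V)]
    exact Finset.sum_congr rfl fun ψ _ => by rw [apply_one_eq_charDegree ψ]
  have hle : ∑ ψ ∈ {trivChar V, η}, charDegree (ψ : V → ℂ) ^ 2 ≤ Nat.card V :=
    hsum ▸ Finset.sum_le_sum_of_subset (Finset.subset_univ _)
  rw [Finset.sum_pair hne.symm, hone] at hle
  have h0 := CfsgLib.Blocks.charDegree_pos η
  nlinarith

variable [Fintype P] [Fintype (IrrCharacter P)] [Fintype V] [Fintype (IrrCharacter V)]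
  [Fintype (IrrCharacter G)]

/-- Shape of the restriction of an irreducible character. -/
theorem pattern {M : Ideal AlgInt} [M.IsPrime] (hM : IsPModular p M) (χ : IrrCharacter G) :
    ∃ μ : IrrCharacter P, μ ≠ trivChar P ∧ ∃ c d : ℤ,
      ((c = 0 ∧ d = 0) ∨ ((c = 1 ∨ c = -1) ∧ (d = c ∨ d = 0))) ∧
      ∀ l, l ≠ trivChar P →
        (h.aMult χ l : ℤ) = h.aMult χ (trivChar P) + if InN P μ l then c else d := by
  obtain ⟨μ₀, hμ₀⟩ : ∃ μ : IrrCharacter P, μ ≠ trivChar P := by
    refine Fintype.exists_ne_of_one_lt_card ?_ _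
    rw [← Nat.card_eq_fintype_card, h.card_lchar]
    exact h.prime.one_lt
  by_cases hdiv : p ∣ charDegree (χ : G → ℂ)
  · refine ⟨μ₀, hμ₀, 0, 0, Or.inl ⟨rfl, rfl⟩, fun l hl => ?_⟩
    have hz : ∀ x : P, x ≠ 1 → (χ : G → ℂ) x = 0 := by
      intro x hx
      have e := h.apply_eq_sum (IsIrr.isClassFunction χ.2) x.2 1
      rw [Subgroup.coe_one, mul_one] at e
      rw [e]
      refine Finset.sum_eq_zero fun η' _ => ?_
      rw [by_contradiction fun hne => h.not_dvd_of_mem hM
        (h.mem_blockSet_of_dval hM x.2 (fun e => hx (Subtype.ext e)) χ η' hne) hdiv, zero_mul]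
    have hval : ∀ ν : IrrCharacter P, (h.aMult χ ν : ℂ) = (p : ℂ)⁻¹ * (χ : G → ℂ) 1 := by
      intro ν
      rw [← h.aMult_spec, classInner, h.card, Finset.sum_eq_single (1 : P)
        (fun x _ hx => by rw [hz x hx, zero_mul]) (fun hi => absurd (Finset.mem_univ _) hi),
        h.lchar_one, map_one, mul_one, Subgroup.coe_one]
    rw [ite_self, add_zero]
    exact_mod_cast (hval l).trans (hval _).symm
  · obtain ⟨η, hη⟩ := h.exists_mem_blockSet hM hdiv
    obtain ⟨-, Y, ε, w, θ, hε, -, -, hYθ, -, -, -, hX, hY, -, -⟩ :=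
      h.exists_structure hM η (B := blockOf M (χ : G → ℂ)) (isPBlock_blockOf χ) (mem_blockOf_self χ) hη
    have hsub : ∀ l, (h.aMult χ l : ℤ) = h.aMult χ (trivChar P) + h.coef η χ l := by
      intro l
      rw [← sub_eq_iff_eq_add', h.aMult_sub, Finset.sum_eq_single η]
      · rw [charDegree_V h hV η]; simp
      · intro η' _ hne
        rw [h.coef_eq_zero_of_not_orbit hM hη ?_, mul_zero]
        rintro ⟨n, hn, e⟩
        exact hne (Subtype.ext (e.trans (cjFun_fix h hV _ hn)))
      · exact fun hi => absurd (Finset.mem_univ _) hi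
    by_cases hχY : χ ∈ Y
    · obtain ⟨μ, hμ, rfl⟩ := hYθ χ hχY
      refine ⟨μ, hμ, ε, 0, Or.inr ⟨hε, Or.inr rfl⟩, fun l hl => ?_⟩
      rw [hsub]
      congr 1
      split_ifs with hin
      · exact (hY l μ hl hμ).2.1 ((rel_iff h hV _ l μ).2 hin)
      · exact (hY l μ hl hμ).2.2 fun hr => hin ((rel_iff h hV _ l μ).1 hr)
    · obtain ⟨hw, hwc⟩ := hX χ ⟨mem_blockOf_self χ, hχY⟩
      refine ⟨μ₀, hμ₀, w χ, w χ, Or.inr ⟨hw, Or.inl rfl⟩, fun l hl => ?_⟩
      rw [hsub, ite_self, hwc l hl]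

omit hV

theorem coprime_card {k : ℕ} (hk : k.Coprime p) (hk1 : k ≡ 1 [MOD P.index]) :
    k.Coprime (Nat.card G) := by
  rw [← P.card_mul_index, h.card]
  refine Nat.Coprime.mul_right hk ?_
  rw [Nat.coprime_iff_gcd_eq_one, hk1.gcd_eq, Nat.gcd_one_left]

theorem aMult_powChar (χ : IrrCharacter G) {k : ℕ} (hk : k.Coprime p) (hkG : k.Coprime (Nat.card G))
    (l : IrrCharacter P) :
    h.aMult (⟨_, isIrrCharacter_pow χ.2 hkG⟩ : IrrCharacter G) (h.powChar hk l) = h.aMult χ l := by
  apply Nat.cast_injective (R := ℂ)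
  rw [← h.aMult_spec, ← h.aMult_spec]
  simp only [classInner]
  congr 1
  have hkP : (Nat.card P).Coprime k := by rw [h.card]; exact hk.symm
  refine Fintype.sum_equiv (powCoprime hkP) _ _ fun x => ?_
  rw [h.powChar_apply]
  show (χ : G → ℂ) ((x : G) ^ k) * _ = (χ : G → ℂ) ((x ^ k : P) : G) * _
  rw [Subgroup.coe_pow]
  rfl

/-- The power maps permute the orbits. -/
theorem powChar_orbit {k : ℕ} (hk : k.Coprime p) (μ : IrrCharacter P) (hμ : μ ≠ trivChar P) :
    (Finset.univ.filter fun l => InN P μ l).image (h.powChar hk) =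
      Finset.univ.filter fun l => InN P (h.powChar hk μ) l := by
  refine Finset.eq_of_subset_of_card_le (fun l hl => ?_) ?_
  · obtain ⟨l', hl', rfl⟩ := Finset.mem_image.1 hl
    obtain ⟨g, hg, e⟩ := (Finset.mem_filter.1 hl').2
    refine Finset.mem_filter.2 ⟨Finset.mem_univ _, g, hg, funext fun x => ?_⟩
    rw [h.cjFunP_apply _ hg, h.powChar_apply, h.powChar_apply, ← e, h.cjFunP_apply _ hg]
    refine congrArg _ (Subtype.ext ?_)
    simp [conj_pow]
  · rw [Finset.card_image_of_injective _ (h.powChar_injective hk), h.card_inN μ hμ,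
      h.card_inN _ (h.powChar_ne hk hμ)]

omit h in
/-- The sum of an orbit. -/
noncomputable def orbitFn (P : Subgroup G) [Fintype (IrrCharacter P)] (μ : IrrCharacter P) (x : P) : ℂ :=
  ∑ l ∈ Finset.univ.filter (fun l => InN P μ l), (l : P → ℂ) x

theorem orbitFn_pow {k : ℕ} (hk : k.Coprime p) (μ : IrrCharacter P) (hμ : μ ≠ trivChar P) (x : P) :
    orbitFn P (h.powChar hk μ) x = orbitFn P μ (x ^ k) := by
  rw [orbitFn, ← powChar_orbit h hk μ hμ, Finset.sum_image fun a _ b _ e => h.powChar_injective hk e]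
  rfl

end CfsgLib.Perm.WielandtTwoP
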