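import Cfsg.Agent.Lib.Perm.WielandtTwoP.Frame
import Cfsg.Agent.Lib.Perm.WielandtTwoP.Pattern
import Cfsg.Agent.Lib.Perm.CentralizerRing

/-!
# The constituents of the permutation character, restricted to a Sylow subgroup

* `Data`: group, Sylow subgroup, block set up and decomposition of the permutation character.
* `Data.sum_mult`, `Data.faithful`, `Data.mult_pow`.
-/

set_option autoImplicit false
set_option linter.all false

open scoped ComplexConjugate

namespace CfsgLib.Perm.WielandtTwoP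

open Cfsg MulAction CfsgLib.Char CfsgLib.Blocks CfsgLib.Blocks.PrimeSylow CfsgLib.Perm.CentralizerRing
open scoped _root_.Classical

variable {α : Type*} [Fintype α] [DecidableEq α] {p : ℕ}

/-- The data attached to a primitive, not doubly transitive group of degree `2 p`. -/
structure Data [Fact p.Prime] (G : Subgroup (Equiv.Perm α)) [Fintype G]
    [Fintype (IrrCharacter G)] (P V : Subgroup G) (m : IrrCharacter G → ℕ) : Prop where
  hyp : Hyp p G
  setup : Setup p P V
  card_V : Nat.card V ≤ 2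
  decomp : (fun g : G => (Nat.card (fixedBy α g) : ℂ)) = ∑ χ, (m χ : ℂ) • (χ : G → ℂ)
  triv : m (trivChar G) = 1
  inner : ∀ χ : IrrCharacter G,
    classInner (fun g : G => (Nat.card (fixedBy α g) : ℂ)) (χ : G → ℂ) = (m χ : ℂ)

theorem exists_data {G : Subgroup (Equiv.Perm α)} (H : Hyp p G) [Fact p.Prime] [Fintype G]
    [Fintype (IrrCharacter G)] :
    ∃ (P V : Subgroup G) (m : IrrCharacter G → ℕ), Data (p := p) G P V m := by
  haveI := H.prim
  haveI := H.nonempty
  let S : Sylow p G := default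
  obtain ⟨V, hV⟩ := exists_setup (H.sylow_card S) S.not_dvd_index
  have h2 := H.card_centralizer_le S
  rw [hV.card_centralizer] at h2
  obtain ⟨m, hm, hm1, hmc⟩ := exists_perm_decomp (G := G) (Ω := α)
  refine ⟨S, V, m, H, hV, ?_, hm, hm1, hmc⟩
  exact Nat.le_of_mul_le_mul_left (by rwa [mul_comm p 2]) H.prime.pos

namespace Data

variable [Fact p.Prime] {G : Subgroup (Equiv.Perm α)} [Fintype G] [Fintype (IrrCharacter G)]
  {P V : Subgroup G} {m : IrrCharacter G → ℕ} (D : Data (p := p) G P V m)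
include D

theorem perm_apply (g : G) :
    (Nat.card (fixedBy α g) : ℂ) = ∑ χ, (m χ : ℂ) * (χ : G → ℂ) g := by
  have := congrFun D.decomp g
  simpa [Finset.sum_apply] using this

/-- `π` restricts to `P` as twice the regular character. -/
theorem sum_mult [Fintype P] [Fintype V] [Fintype (IrrCharacter V)] [Fintype (IrrCharacter P)]
    (l : IrrCharacter P) : ∑ χ, m χ * D.setup.aMult χ l = 2 := by
  apply Nat.cast_injective (R := ℂ)
  push_cast
  simp only [← D.setup.aMult_spec, classInner, Finset.mul_sum]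
  rw [Finset.sum_comm, Finset.sum_eq_single (1 : P)]
  · rw [Finset.sum_congr rfl fun χ _ => show (m χ : ℂ) * ((Nat.card P : ℂ)⁻¹ *
        ((χ : G → ℂ) ((1 : P) : G) * conj ((l : P → ℂ) 1))) =
      (Nat.card P : ℂ)⁻¹ * ((m χ : ℂ) * (χ : G → ℂ) 1) by
      rw [D.setup.lchar_one, map_one, mul_one, Subgroup.coe_one]; ring,
      ← Finset.mul_sum, ← D.perm_apply, D.setup.card]
    have e : Nat.card (fixedBy α (1 : G)) = 2 * p := by
      rw [← D.hyp.card, ← Nat.card_eq_fintype_card]
      exact Nat.card_congr (Equiv.subtypeUnivEquiv fun v => one_smul G v)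
    rw [e]
    push_cast
    field_simp [Nat.cast_ne_zero.2 D.hyp.prime.ne_zero]
  · intro x _ hx
    have h0 : (Nat.card (fixedBy α (x : G)) : ℂ) = 0 := by
      rw [Nat.cast_eq_zero]
      exact D.hyp.card_fixedBy_eq_zero (dvd_of_eq (D.setup.orderOf_eq x.2
        (fun e => hx (Subtype.ext e))).symm)
    rw [D.perm_apply] at h0
    rw [Finset.sum_congr rfl fun χ _ => show (m χ : ℂ) * ((Nat.card P : ℂ)⁻¹ *
        ((χ : G → ℂ) (x : G) * conj ((l : P → ℂ) x))) =
      (Nat.card P : ℂ)⁻¹ * conj ((l : P → ℂ) x) * ((m χ : ℂ) * (χ : G → ℂ) (x : G)) by ring,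
      ← Finset.mul_sum, h0, mul_zero]
  · exact fun hi => absurd (Finset.mem_univ _) hi

/-- A nontrivial constituent is faithful. -/
theorem faithful {χ : IrrCharacter G} (hχ : χ ≠ trivChar G) (hm : m χ ≠ 0) (g : G)
    (hg : (χ : G → ℂ) g = (χ : G → ℂ) 1) : g = 1 := by
  haveI := D.hyp.prim
  by_contra hg1
  haveI := D.hyp.nonempty
  obtain ⟨u⟩ := D.hyp.nonempty
  set K := CfsgLib.CharDegree.kerSubgroup χ with hK
  have hKne : K ≠ ⊥ := fun e => hg1 (Subgroup.mem_bot.1 (e ▸ CfsgLib.CharDegree.mem_kerSubgroup.2 hg))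
  haveI := (degree_dvd_of_normal G K (CfsgLib.CharDegree.kerSubgroup_normal χ) hKne u).1
  haveI := Fintype.ofFinite K
  choose n hn using fun ψ : IrrCharacter G => IsChar.classInner_eq_natCast
    (IsChar.restrict K (IsIrr.isCharacter ψ.2)) (isCharacter_one (G := K))
  have h1 : classInner (fun k : K => (Nat.card (fixedBy α k) : ℂ)) (fun _ => 1) = 1 :=
    classInner_perm_one
  have e : (fun k : K => (Nat.card (fixedBy α k) : ℂ)) =
      ∑ ψ : IrrCharacter G, (m ψ : ℂ) • fun k : K => (ψ : G → ℂ) k := by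
    funext k
    simp only [Finset.sum_apply, Pi.smul_apply, smul_eq_mul]
    exact D.perm_apply k
  rw [e, classInner_sum_left] at h1
  simp only [classInner_smul_left, hn] at h1
  have h2 : ∑ ψ, m ψ * n ψ = 1 := by exact_mod_cast h1
  have hnK : ∀ ψ : IrrCharacter G, (∀ k : K, (ψ : G → ℂ) k = (ψ : G → ℂ) 1) →
      n ψ = charDegree (ψ : G → ℂ) := by
    intro ψ hψ
    apply Nat.cast_injective (R := ℂ)
    rw [← hn ψ, classInner]
    simp only [hψ, map_one, mul_one, Finset.sum_const, Finset.card_univ, nsmul_eq_mul,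
      apply_one_eq_charDegree, ← Nat.card_eq_fintype_card]
    rw [← mul_assoc, inv_mul_cancel₀ (Nat.cast_ne_zero.2 Nat.card_pos.ne'), one_mul]
  have ht := hnK (trivChar G) (fun k => by rw [trivChar_apply, trivChar_apply])
  have hc := hnK χ (fun k => CfsgLib.CharDegree.mem_kerSubgroup.1 k.2)
  have h3 : ∑ ψ ∈ {trivChar G, χ}, m ψ * n ψ ≤ 1 :=
    h2 ▸ Finset.sum_le_sum_of_subset (Finset.subset_univ _)
  rw [Finset.sum_pair hχ.symm, D.triv, ht, hc, one_mul] at h3
  have h4 := CfsgLib.Blocks.charDegree_pos χ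
  have h5 := CfsgLib.Blocks.charDegree_pos (trivChar G : IrrCharacter G)
  have h6 : 1 ≤ m χ * charDegree (χ : G → ℂ) := Nat.mul_pos (Nat.pos_of_ne_zero hm) h4
  omega

/-- Power maps preserve the multiplicities. -/
theorem mult_pow (χ : IrrCharacter G) {k : ℕ} (hk : k.Coprime (Nat.card G)) :
    m ⟨_, isIrrCharacter_pow χ.2 hk⟩ = m χ := by
  apply Nat.cast_injective (R := ℂ)
  rw [← D.inner, ← D.inner]
  simp only [classInner]
  congr 1
  refine Fintype.sum_equiv (powCoprime hk.symm) _ _ fun g => ?_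
  show _ * conj ((χ : G → ℂ) (g ^ k)) = (Nat.card (fixedBy α (g ^ k)) : ℂ) * conj ((χ : G → ℂ) (g ^ k))
  congr 2
  obtain ⟨j, hj⟩ := exists_pow_eq_self_of_coprime
    (Nat.Coprime.coprime_dvd_right (orderOf_dvd_natCard g) hk)
  refine congrArg Nat.card (congrArg Set.Elem ?_)
  ext v
  simp only [mem_fixedBy]
  constructor
  · intro h
    exact mem_stabilizer_iff.1 (Subgroup.pow_mem _ (mem_stabilizer_iff.2 h) k)
  · intro h
    rw [← hj]
    exact mem_stabilizer_iff.1 (Subgroup.pow_mem _ (mem_stabilizer_iff.2 h) j)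

end Data

end CfsgLib.Perm.WielandtTwoP
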